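import Cfsg.Agent.H557.SubLink
import Cfsg.Agent.H557.TabD8
import Cfsg.Agent.H557.TabE7A1

/-!
helper557: the tables of the subsystems of `chevE8` describe subsystems of its root system.
-/

set_option autoImplicit false

namespace Cfsg.Agent.H557.LinkE8

open Cfsg.Lie Cfsg.Agent.ChevalleyStructure Cfsg.Agent.ChevalleyStructure.RootVec  Cfsg.Agent.ChevalleyStructure.CoxeterGeomTypes
  Cfsg.Agent.Nodes.RGDChev Cfsg.Agent.H557.SubTab Cfsg.Agent.H557.SubLink Cfsg.Agent.ChevalleyStructure.CoxeterWordCheck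

/-- the Cartan matrix -/
def rw : List (List ℤ) :=
  [[2, 0, -1, 0, 0, 0, 0, 0],
    [0, 2, 0, -1, 0, 0, 0, 0],
    [-1, 0, 2, -1, 0, 0, 0, 0],
    [0, -1, -1, 2, -1, 0, 0, 0],
    [0, 0, 0, -1, 2, -1, 0, 0],
    [0, 0, 0, 0, -1, 2, -1, 0],
    [0, 0, 0, 0, 0, -1, 2, -1],
    [0, 0, 0, 0, 0, 0, -1, 2]]

set_option backward.isDefEq.respectTransparency false in
theorem hrw : rows (cartanOf chevE8 8) = rw := by decide +kernel

/-! ### `TabD8` -/

theorem V_TabD8 : okV TabD8.tab rw = true := by decide +kernel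

theorem E_TabD8 : okE TabD8.tab chevE8 0 = true := by decide +kernel

theorem F_TabD8 : okF TabD8.tab chevE8 0 = true := by decide +kernel

theorem H_TabD8 : okH TabD8.tab = true := by decide +kernel

theorem Q_TabD8 : okQ TabD8.tab = true := by decide +kernel

theorem B_TabD8 : ∃ r < TabD8.tab.N, vf TabD8.tab r 0 ≠ 0 := ⟨42, by decide +kernel, by decide +kernel⟩

/-! ### `TabE7A1` -/

theorem V_TabE7A1 : okV TabE7A1.tab rw = true := by decide +kernel

theorem E_TabE7A1 : okE TabE7A1.tab chevE8 7 = true := by decide +kernel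

theorem F_TabE7A1 : okF TabE7A1.tab chevE8 7 = true := by decide +kernel

theorem H_TabE7A1 : okH TabE7A1.tab = true := by decide +kernel

theorem Q_TabE7A1 : okQ TabE7A1.tab = true := by decide +kernel

theorem B_TabE7A1 : ∃ r < TabE7A1.tab.N, vf TabE7A1.tab r 7 ≠ 0 := ⟨63, by decide +kernel, by decide +kernel⟩

end Cfsg.Agent.H557.LinkE8
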