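import Cfsg.Agent.H557.SignTorus
import Cfsg.Agent.H557.LinkE8

/-!
helper557: the orbits of the Weyl group on the involutions of the torus of `chevE8`.
-/

set_option autoImplicit false

namespace Cfsg.Agent.H557.OrbE8

open Cfsg.Lie Cfsg.Agent.ChevalleyStructure Cfsg.Agent.ChevalleyStructure.CoxeterGeomTypes
  Cfsg.Agent.H557.SubTab Cfsg.Agent.H557.SignTorus

/-- column masks of the Cartan matrix modulo `2` -/
def cm : List ℕ := [4, 8, 9, 22, 40, 80, 160, 64]

set_option backward.isDefEq.respectTransparency false in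
theorem hcm : OkC (cartanOf chevE8 8) cm := by unfold OkC; decide +kernel

/-! ### `TabD8` -/

/-- the representative -/
def n_TabD8 : ℕ := 6

/-- the orbit -/
def O_TabD8 : ℕ := 4620230636907372459406087134289173856143393336137370735266224779377235069640

/-- the orbit list -/ def L_TabD8 : List (ℕ × ℕ) := [(7, 0), (3, 2), (11, 3), (9, 1), (27, 4), (25, 4), (59, 5), (17,
  3), (57, 5), (123, 6), (21, 2), (49, 5), (121, 6), (251, 7), (20, 0), (53, 5), (33, 4), (113, 6), (249, 7), (52, 5),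
  (37, 4), (117, 6), (97, 6), (241, 7), (36, 4), (116, 6), (45, 3), (101, 6), (245, 7), (65, 5), (225, 7), (44, 3),
  (100, 6), (244, 7), (47, 1), (109, 6), (69, 5), (229, 7), (193, 7), (46, 1), (40, 2), (108, 6), (68, 5), (228, 7),
  (111, 6), (77, 5), (237, 7), (197, 7), (129, 6), (42, 2), (110, 6), (104, 6), (76, 5), (236, 7), (196, 7), (79, 5),
  (239, 7), (93, 4), (205, 7), (133, 6), (34, 3), (106, 6), (78, 5), (238, 7), (72, 5), (232, 7), (92, 4), (204, 7),
  (132, 6), (95, 4), (207, 7), (221, 7), (141, 6), (50, 4), (98, 6), (74, 5), (234, 7), (94, 4), (206, 7), (88, 4),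
  (200, 7), (220, 7), (140, 6), (87, 3), (223, 7), (143, 6), (157, 6), (18, 5), (114, 6), (66, 5), (226, 7), (90, 4),
  (202, 7), (86, 3), (222, 7), (142, 6), (80, 3), (216, 7), (136, 6), (156, 6), (83, 2), (215, 7), (159, 6), (189, 5),
  (242, 7), (194, 7), (218, 7), (138, 6), (214, 7), (158, 6), (208, 7), (152, 6), (188, 5), (211, 7), (151, 6), (191,
  5), (130, 6), (154, 6), (150, 6), (190, 5), (144, 6), (184, 5), (147, 6), (183, 5), (186, 5), (182, 5), (176, 5),
  (179, 5), (167, 4), (166, 4), (160, 4), (163, 4), (171, 3), (169, 1)]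

theorem nO_TabD8 : (O_TabD8).testBit n_TabD8 = true := by decide +kernel

theorem okO_TabD8 : okOrb 8 cm O_TabD8 (2 ^ n_TabD8) L_TabD8 = true := by decide +kernel

theorem okC_TabD8 : okCl 8 cm O_TabD8 = true := by decide +kernel

theorem len_TabD8 : ((List.range (2 ^ 8)).filter fun n => (O_TabD8).testBit n).length = 135 := by decide +kernel

theorem n0_TabD8 : ∀ j : Fin 8, par 8 (n_TabD8 &&& cm.getD j 0) = decide (j = 0) := by decide +kernel

theorem wd_TabD8 : ∀ i : Fin 8, ((TabD8.tab.w i).foldr (fun j m => step 8 cm j m) n_TabD8) = n_TabD8 := by decide +kernel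

/-! ### `TabE7A1` -/

/-- the representative -/
def n_TabE7A1 : ℕ := 82

/-- the orbit -/
def O_TabE7A1 : ℕ := 111171858600408822964164897874398733997126591329503193304191359228535894570294

/-- the orbit list -/ def L_TabE7A1 : List (ℕ × ℕ) := [(210, 7), (146, 6), (178, 5), (162, 4), (170, 3), (168, 1),
  (174, 2), (172, 2), (175, 0), (173, 0), (164, 3), (165, 3), (180, 4), (161, 2), (181, 4), (148, 5), (177, 4), (149,
  5), (212, 6), (185, 3), (145, 5), (213, 6), (84, 7), (187, 1), (153, 5), (209, 6), (85, 7), (155, 5), (137, 4),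
  (217, 6), (81, 7), (139, 4), (219, 6), (201, 6), (89, 7), (131, 3), (203, 6), (91, 7), (233, 5), (73, 7), (135, 2),
  (195, 6), (235, 5), (75, 7), (105, 7), (134, 0), (199, 6), (227, 5), (67, 7), (107, 7), (41, 6), (198, 6), (231, 5),
  (71, 7), (243, 4), (99, 7), (43, 6), (230, 5), (70, 7), (247, 4), (103, 7), (115, 7), (35, 6), (246, 4), (102, 7),
  (255, 3), (119, 7), (39, 6), (51, 6), (254, 3), (118, 7), (38, 6), (253, 1), (127, 7), (55, 6), (19, 5), (252, 1),
  (250, 2), (126, 7), (54, 6), (125, 7), (63, 6), (23, 5), (248, 2), (124, 7), (122, 7), (62, 6), (22, 5), (61, 6),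
  (31, 5), (240, 3), (120, 7), (60, 6), (58, 6), (30, 5), (29, 5), (15, 4), (224, 4), (112, 7), (56, 6), (28, 5), (26,
  5), (14, 4), (13, 4), (192, 5), (96, 7), (48, 6), (24, 5), (12, 4), (10, 4), (5, 3), (128, 6), (64, 7), (32, 6),
  (16, 5), (8, 4), (4, 3), (2, 3), (1, 2)]

theorem nO_TabE7A1 : (O_TabE7A1).testBit n_TabE7A1 = true := by decide +kernel

theorem okO_TabE7A1 : okOrb 8 cm O_TabE7A1 (2 ^ n_TabE7A1) L_TabE7A1 = true := by decide +kernel

theorem okC_TabE7A1 : okCl 8 cm O_TabE7A1 = true := by decide +kernel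

theorem len_TabE7A1 : ((List.range (2 ^ 8)).filter fun n => (O_TabE7A1).testBit n).length = 120 := by decide +kernel

theorem n0_TabE7A1 : ∀ j : Fin 8, par 8 (n_TabE7A1 &&& cm.getD j 0) = decide (j = 7) := by decide +kernel

theorem wd_TabE7A1 : ∀ i : Fin 8, ((TabE7A1.tab.w i).foldr (fun j m => step 8 cm j m) n_TabE7A1) = n_TabE7A1 := by decide +kernel

theorem cover : ∀ n < 2 ^ 8, n = 0 ∨ (O_TabD8).testBit n = true ∨ (O_TabE7A1).testBit n = true := by decide +kernel

end Cfsg.Agent.H557.OrbE8
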