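import Cfsg.Agent.H557.InvClass
import Cfsg.Agent.H557.OrbE8
import Cfsg.Agent.S1093

/-!
helper557: the classes of involutions of `chevE8` over finite fields of odd order.
-/

set_option autoImplicit false

namespace Cfsg.Agent.H557.InvE8

open Cfsg.Lie Cfsg.Agent.ChevalleyStructure Cfsg.Agent.ChevalleyStructure.CoxeterGeomTypes
  Cfsg.Agent.Nodes.RGDChev Cfsg.Agent.KFacts.RgdChevCoord Cfsg.Agent.OddHalf.NI.ModelChev
  Cfsg.Agent.H557.SubTab Cfsg.Agent.H557.SubLink Cfsg.Agent.H557.SignTorus Cfsg.Agent.H557.InvClass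
  Cfsg.Agent.H557.ToralTypes Cfsg.Agent.H557.LinkE8 Cfsg.Agent.H557.OrbE8

universe u

/-- the Coxeter system -/
def cs : CoxeterSystem CoxeterMatrix.E₈ (CoxeterMatrix.E₈).Group := CoxeterMatrix.toCoxeterSystem _

theorem cardW : Nat.card (CoxeterMatrix.E₈).Group = 696729600 :=
  Cfsg.Agent.S1093.result (⟨8, CoxeterMatrix.E₈⟩, 696729600) (by simp)

/-- the class of `TabD8` -/
def D_TabD8 : ClassData Nodes.KindE.isType8 cs cm TabD8.tab [2, 4, 6, 8, 10, 12, 14, 8] n_TabD8 O_TabD8 where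
  i₀ := 0
  L := lnk_of Nodes.KindE.isType8 cs hrw V_TabD8 E_TabD8 F_TabD8 H_TabD8 Q_TabD8
  ok := TabD8.ok
  beta := B_TabD8
  Ls := TabD8.chain
  ch := TabD8.chOK
  po := TabD8.poly_eq
  len := rfl
  pos := by simp
  n_lt := by decide +kernel
  n_ne := by decide +kernel
  nO := nO_TabD8
  Lo := L_TabD8
  okO := okO_TabD8
  okC := okC_TabD8
  c := 135
  lc := len_TabD8
  n0 := n0_TabD8
  wd := wd_TabD8
  c0 := by norm_num
  cW := by rw [TabD8.pe_one, cardW]

/-- the class of `TabE7A1` -/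
def D_TabE7A1 : ClassData Nodes.KindE.isType8 cs cm TabE7A1.tab [2, 6, 8, 10, 12, 14, 18, 2] n_TabE7A1 O_TabE7A1 where
  i₀ := 7
  L := lnk_of Nodes.KindE.isType8 cs hrw V_TabE7A1 E_TabE7A1 F_TabE7A1 H_TabE7A1 Q_TabE7A1
  ok := TabE7A1.ok
  beta := B_TabE7A1
  Ls := TabE7A1.chain
  ch := TabE7A1.chOK
  po := TabE7A1.poly_eq
  len := rfl
  pos := by simp
  n_lt := by decide +kernel
  n_ne := by decide +kernel
  nO := nO_TabE7A1
  Lo := L_TabE7A1
  okO := okO_TabE7A1
  okC := okC_TabE7A1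
  c := 120
  lc := len_TabE7A1
  n0 := n0_TabE7A1
  wd := wd_TabE7A1
  c0 := by norm_num
  cW := by rw [TabE7A1.pe_one, cardW]

/-- **the classes of involutions** -/
theorem main {K : Type u} [Field K] [Fintype K] (ho : Odd (Fintype.card K)) :
    ∃ s t : ↥(chevE8.group K), orderOf s = 2 ∧ orderOf t = 2 ∧ ¬ IsConj s t ∧
      (∀ u : ↥(chevE8.group K), orderOf u = 2 → IsConj u s ∨ IsConj u t) ∧
      Nat.card (Subgroup.centralizer ({s} : Set ↥(chevE8.group K))) =
        Fintype.card K ^ TabD8.tab.m * (([2, 4, 6, 8, 10, 12, 14, 8] : List ℕ).map fun d => Fintype.card K ^ d - 1).prod ∧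
      Nat.card (Subgroup.centralizer ({t} : Set ↥(chevE8.group K))) =
        Fintype.card K ^ TabE7A1.tab.m * (([2, 6, 8, 10, 12, 14, 18, 2] : List ℕ).map fun d => Fintype.card K ^ d - 1).prod := by
  obtain ⟨p, hpp, hpc, hp2⟩ := exists_char K ho
  have : Fact p.Prime := ⟨hpp⟩
  have h2 : (2 : K) ≠ 0 := by
    intro h
    have h3 : p ∣ 2 := (CharP.cast_eq_zero_iff K p 2).1 (by exact_mod_cast h)
    have h4 := (Nat.prime_dvd_prime_iff_eq hpp Nat.prime_two).1 h3
    rw [h4] at hp2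
    exact absurd hp2 (by decide)
  have hW : Finite (CoxeterMatrix.E₈).Group := Nat.finite_of_card_ne_zero (by rw [cardW]; norm_num)
  have hc1 : Nat.card (chevE8.diagonalSubgroup K) = (Nat.card K - 1) ^ 8 := by
    have := Cfsg.Agent.S1035.result (F := K) rfl (chevE8, 1) (by simp)
    rw [Nat.card_eq_fintype_card (α := K)]
    rwa [one_mul] at this
  have hT : Nat.card ↥(TT chevE8 K) = (Nat.card K - 1) ^ 8 := by
    rw [← hc1]
    exact Nat.card_congr (Subgroup.subgroupOfEquivOfLe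
      (Cfsg.Agent.ChevalleyStructure.Elts.diagonal_le_group (Nodes.KindE.isType8).inList K)).toEquiv
  rw [← Nat.card_eq_fintype_card]
  exact two_classes hcm p h2 inj_E8 (fun t ht => surj_E8 ht) (fun t ht => toral_E8 ho ht) hT D_TabD8 D_TabE7A1
    cover (by decide +kernel)

end Cfsg.Agent.H557.InvE8
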