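import Cfsg.Agent.H557.LrRho
import Cfsg.Agent.GenExc.Data
import Cfsg.Agent.S1054

/-!
helper557: the involutions of the torus of `F₄(q)`, `E₆(q)`, `E₇(q)`, `E₈(q)`, `q` odd: at most two components in the
centralizer: `torus_F4`, ..., `torus_E8`. Tables.
-/

set_option autoImplicit false
set_option linter.unusedSectionVars false

namespace Cfsg.Agent.H557.LrData

open CoxeterSystem
open Cfsg Cfsg.Lie Cfsg.Lie.ChevalleyDatum
open Cfsg.Agent.ChevalleyStructure Cfsg.Agent.ChevalleyStructure.CoxeterGeom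
  Cfsg.Agent.ChevalleyStructure.CoxeterGeomTypes
open Cfsg.Agent.Tits.Roots Cfsg.Agent.Nodes.BNOf Cfsg.Agent.Nodes.RGDChev
open Cfsg.Agent.KFacts.RgdChevCoord (TT XX)
open Cfsg.Agent.GenExc Cfsg.Agent.GenExc.Chev
open Cfsg.Agent.H557.LrSgn Cfsg.Agent.H557.LrOrb Cfsg.Agent.H557.LrIso Cfsg.Agent.H557.LrChev Cfsg.Agent.H557.LrRho

theorem bits_eq_csz {l : ℕ} {A : Fin l → Fin l → ℤ} {S : List (Fin l)} {n : ℕ}
    (h : ∀ k : Fin l, decide (csv A S (sr k) % 2 ≠ 0) = n.testBit k) : bits l n = csz A S := by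
  refine ext_sr fun k => ?_
  rw [bits_sr, csz_apply, cast_zmod2, ← h k]
  simp

theorem center_eq_bot {G : Type*} [Group G] (h : IsSimpleGroup G ∧ ¬ IsMulCommutative G) : Subgroup.center G = ⊥ := by
  have := h.1
  rcases (inferInstance : (Subgroup.center G).Normal).eq_bot_or_eq_top with h1 | h1
  · exact h1
  · exfalso
    apply h.2
    exact ⟨⟨fun a b => by
      have h2 : a ∈ Subgroup.center G := by rw [h1]; exact Subgroup.mem_top a
      exact (Subgroup.mem_center_iff.1 h2 b).symm⟩⟩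

/-- from the masks to the torus -/
theorem torus_of {D : ChevalleyDatum} {l : ℕ} {M : CoxeterMatrix (Fin l)} (hp : IsType D l M) {K : Type} [Field K]
    [Finite K] (p : ℕ) [Fact p.Prime] [CharP K p] (hp2 : Odd p) {W : Type*} [Group W] (cs : CoxeterSystem M W)
    (hP : ∀ n < 2 ^ l, PB cs hp.isCartan (TT D K) (XX D l K) 2 n) {t : ↥(D.group K)} (ht : t ∈ TT D K)
    (htt : t * t = 1) (h1 : t ≠ 1) : NumLe 2 t := by
  have := Fintype.ofFinite K
  obtain ⟨n, hn, hs⟩ := exists_sgn hp cs p (odd_card (F := K) hp2).2 ht htt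
  exact hP n hn t hs h1

/-! ### `F4` -/

/-- row masks of the Cartan matrix modulo `2` -/
def rmF4 : List ℕ := [2, 1, 10, 4]

set_option backward.isDefEq.respectTransparency false in
theorem okR_F4 : OkR (cartanOf chevF4 4) rmF4 := by unfold OkR; decide +kernel

/-- the orbit list -/
def LF4 : List (ℕ × ℕ) :=
  [(12, 3), (3, 0), (6, 2), (2, 1), (7, 1), (5, 0), (13, 2), (15, 2), (9, 3), (14, 1), (11, 3), (4, 2), (10, 3)]

theorem okL_F4 : okL 4 rmF4 (2 ^ 2 ^ 4 - 1) 259 LF4 = true := by decide +kernel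

set_option backward.isDefEq.respectTransparency false in
theorem rhoF4 : RhoD chevF4 fF4 [0, 2] [3] [0, 1, 2] 47 3
    [3, 2, 1, 2, 0, 1, 2] where
  sub := subF4
  chk := ⟨[0, 1, 1, 2, 2, 2, 3, 3], by decide +kernel⟩
  even := by decide +kernel
  lt := by decide +kernel
  word := by decide +kernel
  char := by decide +kernel

set_option backward.isDefEq.respectTransparency false in
theorem bits_F4 : bits 4 (2 ^ 3) = csz (cartanOf chevF4 4) [0, 2] := bits_eq_csz (by decide +kernel)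

/-- the seeds, `k = 0` -/
def sdF4_0 : List (ℕ × List (Fin 4)) := [(chevF4.simple 3, [3]), (chevF4.simple 2, [2]), (47, [0, 2])]

set_option backward.isDefEq.respectTransparency false in
theorem irrF4_0 : IrrD chevF4 (l := 4) 0 sdF4_0 47 [0, 2] 3 where
  cov := by decide +kernel
  lt := by decide +kernel
  seed := by
    intro s hs
    simp only [sdF4_0, List.mem_cons, List.not_mem_nil, or_false] at hs
    rcases hs with rfl | rfl | rfl
    · exact Or.inl ⟨3, rfl⟩
    · exact Or.inl ⟨2, rfl⟩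
    · exact Or.inr rfl
  pos := by decide
  first := rfl
  par := ⟨(![0, 0, 0] : Fin 3 → Fin 3), by decide +kernel⟩

section

variable {K : Type} [Field K] [Finite K] (p : ℕ) [Fact p.Prime] [CharP K p]

/-- **`F4`** : the involutions of the torus -/
theorem torus_F4 (hp2 : Odd p) {t : ↥(chevF4.group K)} (ht : t ∈ TT chevF4 K) (htt : t * t = 1) (h1 : t ≠ 1) :
    NumLe 2 t := by
  have := Fintype.ofFinite K
  obtain ⟨cs, -⟩ : ∃ cs, cs = (CoxeterMatrix.F₄).toCoxeterSystem := ⟨_, rfl⟩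
  have hW : Finite (CoxeterMatrix.F₄).Group := finite_W isType_F4 cs
  have hZ : Subgroup.center ↥(chevF4.group K) = ⊥ := center_eq_bot (S1054.result _ (by simp))
  have R := rgd (K := K) isType_F4 cs p
  refine torus_of isType_F4 p hp2 cs (fun n hn => ?_) ht htt h1
  refine orbit_all (rm := rmF4) (fun j n => PB.step R okR_F4 j n) okL_F4 (fun m hm => ?_) hn
  have hc : ∀ m : ℕ, (259 : ℕ).testBit m = true → m = 0 ∨ m = 8 ∨ m = 1 := by
    intro m hm
    by_cases h : m < 9
    · revert hm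
      revert m
      decide +kernel
    · exfalso
      rw [Nat.testBit_lt_two_pow (lt_of_lt_of_le (by norm_num : (259 : ℕ) < 2 ^ 9)
        (Nat.pow_le_pow_right (by norm_num) (not_lt.1 h)))] at hm
      exact absurd hm (by decide)
  rcases hc m hm with rfl | rfl | rfl
  · exact PB.zero (G1_eq_top isType_F4 cs) hZ
  · exact class_rho isType_F4 cs rhoF4 p hZ hp2 (k0 := 3) bits_F4
  · exact PB.mono (by norm_num) (class_irr isType_F4 cs rhoF4 p hZ hp2 irrF4_0)

end

/-! ### `E6` -/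

/-- row masks of the Cartan matrix modulo `2` -/
def rmE6 : List ℕ := [4, 8, 9, 22, 40, 16]

set_option backward.isDefEq.respectTransparency false in
theorem okR_E6 : OkR (cartanOf chevE6 6) rmE6 := by unfold OkR; decide +kernel

/-- the orbit list -/
def LE6 : List (ℕ × ℕ) :=
  [(10, 1), (5, 0), (28, 3), (12, 2), (21, 2), (52, 4), (26, 3), (17, 0), (61, 4), (36, 5), (18, 1), (50, 4), (57,
  4), (43, 3), (45, 5), (58, 4), (34, 5), (47, 3), (41, 5), (35, 1), (59, 5), (44, 3), (42, 5), (39, 1), (38,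
  2), (63, 5), (51, 5), (19, 4), (37, 2), (60, 5), (46, 2), (55, 5), (54, 5), (23, 4), (27, 4), (33, 0), (53,
  5), (20, 4), (56, 3), (62, 5), (31, 4), (30, 4), (13, 3), (49, 5), (29, 4), (16, 4), (40, 5), (22, 4), (9, 3),
  (8, 3), (4, 2), (25, 4), (11, 3), (15, 3), (3, 1), (7, 1), (6, 2), (14, 2), (24, 3), (48, 4), (32, 5)]

theorem okL_E6 : okL 6 rmE6 (2 ^ 2 ^ 6 - 1) 7 LE6 = true := by decide +kernel

set_option backward.isDefEq.respectTransparency false in
theorem rhoE6 : RhoD chevE6 fE6 [0, 3, 5] [1] [0, 2, 3, 4, 5] 71 1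
    [1, 3, 4, 5, 2, 3, 4, 0, 2, 3] where
  sub := subE6
  chk := ⟨[0, 1, 1, 2, 2, 3, 3, 3, 4, 4, 5], by decide +kernel⟩
  even := by decide +kernel
  lt := by decide +kernel
  word := by decide +kernel
  char := by decide +kernel

set_option backward.isDefEq.respectTransparency false in
theorem bits_E6 : bits 6 (2 ^ 1) = csz (cartanOf chevE6 6) [0, 3, 5] := bits_eq_csz (by decide +kernel)

/-- the seeds, `k = 0` -/
def sdE6_0 : List (ℕ × List (Fin 6)) := [(chevE6.simple 1, [1]), (chevE6.simple 3, [3]), (chevE6.simple 4, [4]), (chevE6.simple 5, [5]), (chevE6.simple 2, [2])]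

set_option backward.isDefEq.respectTransparency false in
theorem irrE6_0 : IrrD chevE6 (l := 6) 0 sdE6_0 71 [0, 3, 5] 1 where
  cov := by decide +kernel
  lt := by decide +kernel
  seed := by
    intro s hs
    simp only [sdE6_0, List.mem_cons, List.not_mem_nil, or_false] at hs
    rcases hs with rfl | rfl | rfl | rfl | rfl
    · exact Or.inl ⟨1, rfl⟩
    · exact Or.inl ⟨3, rfl⟩
    · exact Or.inl ⟨4, rfl⟩
    · exact Or.inl ⟨5, rfl⟩
    · exact Or.inl ⟨2, rfl⟩
  pos := by decide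
  first := rfl
  par := ⟨(![0, 0, 1, 2, 1] : Fin 5 → Fin 5), by decide +kernel⟩

section

variable {K : Type} [Field K] [Finite K] (p : ℕ) [Fact p.Prime] [CharP K p]

/-- **`E6`** : the involutions of the torus -/
theorem torus_E6 (hp2 : Odd p) {t : ↥(chevE6.group K)} (ht : t ∈ TT chevE6 K) (htt : t * t = 1) (h1 : t ≠ 1) :
    NumLe 2 t := by
  have := Fintype.ofFinite K
  obtain ⟨cs, -⟩ : ∃ cs, cs = (CoxeterMatrix.E₆).toCoxeterSystem := ⟨_, rfl⟩
  have hW : Finite (CoxeterMatrix.E₆).Group := finite_W isType_E6 cs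
  have hZ : Subgroup.center ↥(chevE6.group K) = ⊥ := center_eq_bot (S1054.result _ (by simp))
  have R := rgd (K := K) isType_E6 cs p
  refine torus_of isType_E6 p hp2 cs (fun n hn => ?_) ht htt h1
  refine orbit_all (rm := rmE6) (fun j n => PB.step R okR_E6 j n) okL_E6 (fun m hm => ?_) hn
  have hc : ∀ m : ℕ, (7 : ℕ).testBit m = true → m = 0 ∨ m = 2 ∨ m = 1 := by
    intro m hm
    by_cases h : m < 3
    · revert hm
      revert m
      decide +kernel
    · exfalso
      rw [Nat.testBit_lt_two_pow (lt_of_lt_of_le (by norm_num : (7 : ℕ) < 2 ^ 3)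
        (Nat.pow_le_pow_right (by norm_num) (not_lt.1 h)))] at hm
      exact absurd hm (by decide)
  rcases hc m hm with rfl | rfl | rfl
  · exact PB.zero (G1_eq_top isType_E6 cs) hZ
  · exact class_rho isType_E6 cs rhoE6 p hZ hp2 (k0 := 1) bits_E6
  · exact PB.mono (by norm_num) (class_irr isType_E6 cs rhoE6 p hZ hp2 irrE6_0)

end

/-! ### `E7` -/

/-- row masks of the Cartan matrix modulo `2` -/
def rmE7 : List ℕ := [4, 8, 9, 22, 40, 80, 32]

set_option backward.isDefEq.respectTransparency false in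
theorem okR_E7 : OkR (cartanOf chevE7 7) rmE7 := by unfold OkR; decide +kernel

/-- the orbit list -/
def LE7 : List (ℕ × ℕ) :=
  [(5, 0), (96, 6), (10, 1), (12, 2), (48, 5), (28, 3), (26, 3), (24, 4), (21, 2), (52, 4), (18, 1), (50, 4), (14,
  3), (17, 0), (61, 4), (100, 5), (58, 4), (98, 5), (6, 1), (7, 2), (57, 4), (43, 3), (109, 5), (68, 6), (44,
  3), (106, 5), (66, 6), (15, 2), (3, 0), (47, 3), (105, 5), (35, 1), (123, 5), (77, 6), (37, 2), (124, 5), (74,
  6), (11, 0), (25, 3), (39, 1), (38, 2), (127, 5), (73, 6), (115, 5), (83, 4), (91, 6), (33, 0), (117, 5), (84,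
  4), (92, 6), (29, 3), (49, 4), (46, 2), (119, 5), (118, 5), (87, 4), (95, 6), (113, 5), (93, 4), (85, 6),
  (116, 6), (20, 2), (53, 4), (97, 5), (56, 3), (126, 5), (94, 4), (86, 6), (89, 4), (81, 6), (75, 3), (125, 6),
  (36, 5), (60, 4), (101, 5), (65, 6), (16, 4), (104, 5), (72, 3), (79, 3), (121, 6), (67, 1), (107, 6), (45,
  5), (42, 3), (108, 5), (69, 6), (71, 1), (70, 2), (111, 6), (41, 5), (99, 6), (59, 5), (34, 1), (122, 5), (76,
  6), (78, 2), (103, 6), (102, 6), (63, 5), (51, 5), (19, 4), (114, 5), (82, 4), (90, 6), (88, 3), (110, 6),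
  (55, 5), (54, 5), (23, 4), (27, 4), (112, 4), (120, 6), (62, 5), (31, 4), (30, 4), (13, 3), (32, 5), (80, 6),
  (40, 5), (22, 4), (9, 3), (8, 3), (4, 2)]

theorem okL_E7 : okL 7 rmE7 (2 ^ 2 ^ 7 - 1) 18446744073709551623 LE7 = true := by decide +kernel

set_option backward.isDefEq.respectTransparency false in
theorem rhoE7 : RhoD chevE7 fE7 [2, 4, 6] [0] [1, 2, 3, 4, 5, 6] 125 0
    [0, 2, 3, 4, 5, 6, 1, 3, 4, 5, 2, 3, 4, 1, 3, 2] where
  sub := subE7
  chk := ⟨[0, 0, 1, 1, 2, 2, 2, 3, 3, 3, 3, 4, 4, 4, 5, 5, 6], by decide +kernel⟩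
  even := by decide +kernel
  lt := by decide +kernel
  word := by decide +kernel
  char := by decide +kernel

set_option backward.isDefEq.respectTransparency false in
theorem bits_E7 : bits 7 (2 ^ 0) = csz (cartanOf chevE7 7) [2, 4, 6] := bits_eq_csz (by decide +kernel)

/-- the seeds, `k = 6` -/
def sdE7_6 : List (ℕ × List (Fin 7)) := [(chevE7.simple 0, [0]), (chevE7.simple 2, [2]), (chevE7.simple 3, [3]), (chevE7.simple 4, [4]), (chevE7.simple 5, [5]), (chevE7.simple 1, [1])]

set_option backward.isDefEq.respectTransparency false in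
theorem irrE7_6 : IrrD chevE7 (l := 7) 6 sdE7_6 125 [2, 4, 6] 0 where
  cov := by decide +kernel
  lt := by decide +kernel
  seed := by
    intro s hs
    simp only [sdE7_6, List.mem_cons, List.not_mem_nil, or_false] at hs
    rcases hs with rfl | rfl | rfl | rfl | rfl | rfl
    · exact Or.inl ⟨0, rfl⟩
    · exact Or.inl ⟨2, rfl⟩
    · exact Or.inl ⟨3, rfl⟩
    · exact Or.inl ⟨4, rfl⟩
    · exact Or.inl ⟨5, rfl⟩
    · exact Or.inl ⟨1, rfl⟩
  pos := by decide
  first := rfl
  par := ⟨(![0, 0, 1, 2, 3, 2] : Fin 6 → Fin 6), by decide +kernel⟩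

/-- the seeds, `k = 1` -/
def sdE7_1 : List (ℕ × List (Fin 7)) := [(chevE7.simple 0, [0]), (chevE7.simple 2, [2]), (chevE7.simple 3, [3]), (chevE7.simple 4, [4]), (chevE7.simple 5, [5]), (chevE7.simple 6, [6])]

set_option backward.isDefEq.respectTransparency false in
theorem irrE7_1 : IrrD chevE7 (l := 7) 1 sdE7_1 125 [2, 4, 6] 0 where
  cov := by decide +kernel
  lt := by decide +kernel
  seed := by
    intro s hs
    simp only [sdE7_1, List.mem_cons, List.not_mem_nil, or_false] at hs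
    rcases hs with rfl | rfl | rfl | rfl | rfl | rfl
    · exact Or.inl ⟨0, rfl⟩
    · exact Or.inl ⟨2, rfl⟩
    · exact Or.inl ⟨3, rfl⟩
    · exact Or.inl ⟨4, rfl⟩
    · exact Or.inl ⟨5, rfl⟩
    · exact Or.inl ⟨6, rfl⟩
  pos := by decide
  first := rfl
  par := ⟨(![0, 0, 1, 2, 3, 4] : Fin 6 → Fin 6), by decide +kernel⟩

section

variable {K : Type} [Field K] [Finite K] (p : ℕ) [Fact p.Prime] [CharP K p]

/-- **`E7`** : the involutions of the torus -/
theorem torus_E7 (hp2 : Odd p) {t : ↥(chevE7.group K)} (ht : t ∈ TT chevE7 K) (htt : t * t = 1) (h1 : t ≠ 1) :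
    NumLe 2 t := by
  have := Fintype.ofFinite K
  obtain ⟨cs, -⟩ : ∃ cs, cs = (CoxeterMatrix.E₇).toCoxeterSystem := ⟨_, rfl⟩
  have hW : Finite (CoxeterMatrix.E₇).Group := finite_W isType_E7 cs
  have hZ : Subgroup.center ↥(chevE7.group K) = ⊥ := center_eq_bot (S1054.result _ (by simp))
  have R := rgd (K := K) isType_E7 cs p
  refine torus_of isType_E7 p hp2 cs (fun n hn => ?_) ht htt h1
  refine orbit_all (rm := rmE7) (fun j n => PB.step R okR_E7 j n) okL_E7 (fun m hm => ?_) hn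
  have hc : ∀ m : ℕ, (18446744073709551623 : ℕ).testBit m = true → m = 0 ∨ m = 1 ∨ m = 64 ∨ m = 2 := by
    intro m hm
    by_cases h : m < 65
    · revert hm
      revert m
      decide +kernel
    · exfalso
      rw [Nat.testBit_lt_two_pow (lt_of_lt_of_le (by norm_num : (18446744073709551623 : ℕ) < 2 ^ 65)
        (Nat.pow_le_pow_right (by norm_num) (not_lt.1 h)))] at hm
      exact absurd hm (by decide)
  rcases hc m hm with rfl | rfl | rfl | rfl
  · exact PB.zero (G1_eq_top isType_E7 cs) hZ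
  · exact class_rho isType_E7 cs rhoE7 p hZ hp2 (k0 := 0) bits_E7
  · exact PB.mono (by norm_num) (class_irr isType_E7 cs rhoE7 p hZ hp2 irrE7_6)
  · exact PB.mono (by norm_num) (class_irr isType_E7 cs rhoE7 p hZ hp2 irrE7_1)

end

/-! ### `E8` -/

/-- row masks of the Cartan matrix modulo `2` -/
def rmE8 : List ℕ := [4, 8, 9, 22, 40, 80, 160, 64]

set_option backward.isDefEq.respectTransparency false in
theorem okR_E8 : OkR (cartanOf chevE8 8) rmE8 := by unfold OkR; decide +kernel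

/-- the orbit list -/
def LE8 : List (ℕ × ℕ) :=
  [(192, 7), (5, 0), (96, 6), (12, 2), (48, 5), (26, 3), (24, 4), (18, 1), (50, 4), (14, 3), (58, 4), (98, 5), (6,
  1), (7, 2), (44, 3), (106, 5), (194, 6), (15, 2), (3, 0), (37, 2), (124, 5), (202, 6), (130, 7), (11, 0), (25,
  3), (33, 0), (117, 5), (84, 4), (220, 6), (138, 7), (29, 3), (49, 4), (113, 5), (93, 4), (213, 6), (244, 6),
  (156, 7), (20, 2), (53, 4), (97, 5), (89, 4), (209, 6), (75, 3), (253, 6), (149, 7), (164, 5), (180, 7), (60,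
  4), (101, 5), (193, 6), (79, 3), (249, 6), (145, 7), (67, 1), (235, 6), (173, 5), (189, 7), (228, 7), (42, 3),
  (108, 5), (197, 6), (129, 7), (71, 1), (70, 2), (239, 6), (169, 5), (185, 7), (227, 6), (187, 5), (171, 7),
  (237, 7), (68, 6), (34, 1), (122, 5), (204, 6), (133, 7), (78, 2), (231, 6), (230, 6), (191, 5), (175, 7),
  (233, 7), (179, 5), (163, 7), (147, 4), (251, 7), (77, 6), (114, 5), (82, 4), (218, 6), (140, 7), (88, 3),
  (238, 6), (183, 5), (167, 7), (182, 5), (166, 7), (151, 4), (255, 7), (73, 6), (155, 4), (243, 7), (211, 7),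
  (91, 6), (90, 4), (210, 6), (242, 6), (154, 7), (112, 4), (248, 6), (190, 5), (174, 7), (159, 4), (247, 7),
  (158, 4), (246, 7), (215, 7), (95, 6), (141, 3), (219, 7), (83, 6), (115, 6), (76, 3), (250, 6), (146, 7),
  (162, 5), (178, 7), (32, 5), (208, 6), (168, 5), (184, 7), (150, 4), (254, 7), (137, 3), (223, 7), (87, 6),
  (136, 3), (222, 7), (86, 6), (119, 6), (132, 2), (205, 7), (123, 6), (35, 5), (69, 2), (236, 6), (170, 5),
  (186, 7), (226, 7), (144, 7), (232, 7), (214, 7), (94, 6), (201, 7), (127, 6), (200, 7), (126, 6), (39, 5),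
  (196, 7), (109, 6), (43, 5), (65, 0), (229, 6), (188, 5), (172, 7), (234, 7), (66, 6), (72, 6), (118, 6),
  (105, 6), (47, 5), (104, 6), (46, 5), (100, 6), (61, 5), (225, 6), (181, 5), (165, 7), (148, 4), (252, 7),
  (74, 6), (38, 5), (57, 5), (56, 5), (52, 5), (21, 4), (177, 5), (161, 7), (157, 4), (245, 7), (212, 7), (92,
  6), (17, 4), (16, 4), (28, 4), (153, 4), (241, 7), (139, 3), (221, 7), (85, 6), (116, 6), (10, 3), (143, 3),
  (217, 7), (81, 6), (131, 1), (203, 7), (125, 6), (36, 5), (2, 1), (135, 1), (134, 2), (207, 7), (121, 6),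
  (195, 7), (107, 6), (45, 5), (142, 2), (199, 7), (198, 7), (111, 6), (41, 5), (99, 6), (59, 5), (152, 3),
  (206, 7), (103, 6), (102, 6), (63, 5), (51, 5), (19, 4), (176, 4), (216, 7), (110, 6), (55, 5), (54, 5), (23,
  4), (27, 4), (224, 5), (240, 7), (120, 6), (62, 5), (31, 4), (30, 4), (13, 3), (64, 6), (160, 7), (80, 6),
  (40, 5), (22, 4), (9, 3), (8, 3), (4, 2)]

theorem okL_E8 : okL 8 rmE8 (2 ^ 2 ^ 8 - 1) 340282366920938463463374607431768211459 LE8 = true := by decide +kernel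

set_option backward.isDefEq.respectTransparency false in
theorem rhoE8 : RhoD chevE8 fE8 [1, 4, 6] [7] [0, 1, 2, 3, 4, 5, 6] 239 7
    [7, 6, 5, 4, 3, 2, 1, 3, 4, 5, 6, 0, 2, 3, 4, 5, 1, 3, 4, 2, 3, 0, 2, 1, 3, 4, 5, 6] where
  sub := subE8
  chk := ⟨[0, 0, 1, 1, 1, 2, 2, 2, 2, 3, 3, 3, 3, 3, 3, 4, 4, 4, 4, 4, 5, 5, 5, 5, 6, 6, 6, 7, 7], by decide +kernel⟩
  even := by decide +kernel
  lt := by decide +kernel
  word := by decide +kernel
  char := by decide +kernel

set_option backward.isDefEq.respectTransparency false in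
theorem bits_E8 : bits 8 (2 ^ 7) = csz (cartanOf chevE8 8) [1, 4, 6] := bits_eq_csz (by decide +kernel)

/-- the seeds, `k = 0` -/
def sdE8_0 : List (ℕ × List (Fin 8)) := [(chevE8.simple 7, [7]), (chevE8.simple 6, [6]), (chevE8.simple 5, [5]), (chevE8.simple 4, [4]), (chevE8.simple 3, [3]), (chevE8.simple 2, [2]), (chevE8.simple 1, [1])]

set_option backward.isDefEq.respectTransparency false in
theorem irrE8_0 : IrrD chevE8 (l := 8) 0 sdE8_0 239 [1, 4, 6] 7 where
  cov := by decide +kernel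
  lt := by decide +kernel
  seed := by
    intro s hs
    simp only [sdE8_0, List.mem_cons, List.not_mem_nil, or_false] at hs
    rcases hs with rfl | rfl | rfl | rfl | rfl | rfl | rfl
    · exact Or.inl ⟨7, rfl⟩
    · exact Or.inl ⟨6, rfl⟩
    · exact Or.inl ⟨5, rfl⟩
    · exact Or.inl ⟨4, rfl⟩
    · exact Or.inl ⟨3, rfl⟩
    · exact Or.inl ⟨2, rfl⟩
    · exact Or.inl ⟨1, rfl⟩
  pos := by decide
  first := rfl
  par := ⟨(![0, 0, 1, 2, 3, 4, 4] : Fin 7 → Fin 7), by decide +kernel⟩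

section

variable {K : Type} [Field K] [Finite K] (p : ℕ) [Fact p.Prime] [CharP K p]

/-- **`E8`** : the involutions of the torus -/
theorem torus_E8 (hp2 : Odd p) {t : ↥(chevE8.group K)} (ht : t ∈ TT chevE8 K) (htt : t * t = 1) (h1 : t ≠ 1) :
    NumLe 2 t := by
  have := Fintype.ofFinite K
  obtain ⟨cs, -⟩ : ∃ cs, cs = (CoxeterMatrix.E₈).toCoxeterSystem := ⟨_, rfl⟩
  have hW : Finite (CoxeterMatrix.E₈).Group := finite_W isType_E8 cs
  have hZ : Subgroup.center ↥(chevE8.group K) = ⊥ := center_eq_bot (S1054.result _ (by simp))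
  have R := rgd (K := K) isType_E8 cs p
  refine torus_of isType_E8 p hp2 cs (fun n hn => ?_) ht htt h1
  refine orbit_all (rm := rmE8) (fun j n => PB.step R okR_E8 j n) okL_E8 (fun m hm => ?_) hn
  have hc : ∀ m : ℕ, (340282366920938463463374607431768211459 : ℕ).testBit m = true → m = 0 ∨ m = 128 ∨ m = 1 := by
    intro m hm
    by_cases h : m < 129
    · revert hm
      revert m
      decide +kernel
    · exfalso
      rw [Nat.testBit_lt_two_pow (lt_of_lt_of_le (by norm_num : (340282366920938463463374607431768211459 : ℕ) < 2 ^ 129)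
        (Nat.pow_le_pow_right (by norm_num) (not_lt.1 h)))] at hm
      exact absurd hm (by decide)
  rcases hc m hm with rfl | rfl | rfl
  · exact PB.zero (G1_eq_top isType_E8 cs) hZ
  · exact class_rho isType_E8 cs rhoE8 p hZ hp2 (k0 := 7) bits_E8
  · exact PB.mono (by norm_num) (class_irr isType_E8 cs rhoE8 p hZ hp2 irrE8_0)

end

end Cfsg.Agent.H557.LrData
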