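import Cfsg.Agent.H557.LrIso
import Cfsg.Agent.GenExc.Main
import Cfsg.Agent.BpExc.TorChev

/-!
helper557: sign elements of the torus of `D.group K`, `K` finite of odd characteristic.

* `exists_sgn` : the elements `t` of the torus with `t² = 1` are sign elements;
* `sgnEl_zS` : the `zS S` are sign elements; `rt_simple` : the fundamental roots.
-/

set_option autoImplicit false
set_option linter.unusedSectionVars false

namespace Cfsg.Agent.H557.LrChev

open CoxeterSystem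
open Cfsg Cfsg.Lie Cfsg.Lie.ChevalleyDatum
open Cfsg.Agent.ChevalleyStructure Cfsg.Agent.ChevalleyStructure.Elts Cfsg.Agent.ChevalleyStructure.CoxeterGeom
  Cfsg.Agent.ChevalleyStructure.RootVec Cfsg.Agent.ChevalleyStructure.RootVecTab
  Cfsg.Agent.ChevalleyStructure.CoxeterGeomTypes Cfsg.Agent.ChevalleyStructure.NPerm
open Cfsg.Agent.Tits.Roots Cfsg.Agent.Nodes.Reps Cfsg.Agent.Nodes.BNOf Cfsg.Agent.Nodes.RGDChev
  Cfsg.Agent.Nodes.Bruhat
open Cfsg.Agent.OddHalf.LongSL Cfsg.Agent.OddHalf.LongSL.Chev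
open Cfsg.Agent.KFacts.RgdChevCoord (TT XX nc xc ch act coe_xc)
open Cfsg.Agent.GenExc Cfsg.Agent.GenExc.Chev
open Cfsg.Agent.H557.LrAbs Cfsg.Agent.H557.LrSgn Cfsg.Agent.H557.LrTor Cfsg.Agent.H557.LrOrb Cfsg.Agent.H557.LrIso
open scoped commutatorElement MatrixGroups

section Bits

/-- a multiplicative function with values `± 1` on the fundamental roots is given by a mask -/
theorem exists_mask {l : ℕ} {K : Type*} [Field K] (h2 : (2 : K) ≠ 0) (φ : (Fin l → ℤ) → K) (h0 : φ 0 = 1)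
    (hadd : ∀ x y, φ (x + y) = φ x * φ y) (hs : ∀ k, φ (sr k) = 1 ∨ φ (sr k) = -1) :
    ∃ n < 2 ^ l, ∀ x, (bits l n x = 0 ∧ φ x = 1) ∨ (bits l n x ≠ 0 ∧ φ x = -1) := by
  classical
  refine ⟨Nat.ofBits fun k : Fin l => decide (φ (sr k) = -1), Nat.ofBits_lt_two_pow _, fun x => ?_⟩
  set n := Nat.ofBits fun k : Fin l => decide (φ (sr k) = -1) with hn
  have hneg : (-1 : K) ≠ 1 := by
    intro h
    apply h2
    linear_combination -h
  let H : AddSubgroup (Fin l → ℤ) :=
    { carrier := {x | (bits l n x = 0 ∧ φ x = 1) ∨ (bits l n x ≠ 0 ∧ φ x = -1)}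
      zero_mem' := Or.inl ⟨map_zero _, h0⟩
      add_mem' := by
        rintro x y hx hy
        rw [Set.mem_ofPred_eq] at hx hy ⊢
        rw [map_add, hadd]
        rcases hx with ⟨h1, h3⟩ | ⟨h1, h3⟩ <;> rcases hy with ⟨h4, h5⟩ | ⟨h4, h5⟩
        · left; rw [h1, h4, h3, h5, add_zero, mul_one]; exact ⟨rfl, rfl⟩
        · right; rw [h1, h3, h5, zero_add, one_mul]; exact ⟨h4, rfl⟩
        · right; rw [h4, h3, h5, add_zero, mul_one]; exact ⟨h1, rfl⟩
        · left
          rw [zmod2_cases _ h1, zmod2_cases _ h4, h3, h5, neg_one_mul, _root_.neg_neg]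
          exact ⟨rfl, rfl⟩
      neg_mem' := by
        rintro x hx
        rw [Set.mem_ofPred_eq] at hx ⊢
        rw [map_neg]
        have h1 := hadd x (-x)
        rw [add_neg_cancel, h0] at h1
        rcases hx with ⟨h3, h4⟩ | ⟨h3, h4⟩
        · left
          rw [h4, one_mul] at h1
          exact ⟨by rw [h3, neg_zero], h1.symm⟩
        · right
          rw [h4] at h1
          refine ⟨neg_ne_zero.2 h3, ?_⟩
          linear_combination h1 }
  have hsr : ∀ k : Fin l, (sr k : Fin l → ℤ) ∈ H := by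
    intro k
    show (bits l n (sr k) = 0 ∧ φ (sr k) = 1) ∨ (bits l n (sr k) ≠ 0 ∧ φ (sr k) = -1)
    rw [bits_sr, hn, Nat.testBit_ofBits_lt _ _ k.2]
    rcases hs k with h | h
    · left
      simp [h, hneg.symm]
    · right
      simp [h]
  have hx : x ∈ H := by
    rw [eq_sum_sr x]
    exact sum_mem fun k _ => zsmul_mem (hsr k) _
  exact hx

end Bits

section

variable {D : ChevalleyDatum} {l : ℕ} {M : CoxeterMatrix (Fin l)} (hp : IsType D l M) (K : Type) [Field K]
  {W : Type*} [Group W] (cs : CoxeterSystem M W)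

/-- the parity of `csv` -/
def csz {l : ℕ} (A : Fin l → Fin l → ℤ) (S : List (Fin l)) : (Fin l → ℤ) →+ ZMod 2 where
  toFun x := ((csv A S x : ℤ) : ZMod 2)
  map_zero' := by
    have h1 := csv_add A S 0 0
    rw [add_zero] at h1
    have h2 : csv A S 0 = 0 := by omega
    rw [h2, Int.cast_zero]
  map_add' x y := by rw [csv_add, Int.cast_add]

theorem csz_apply (A : Fin l → Fin l → ℤ) (S : List (Fin l)) (x : Fin l → ℤ) :
    csz A S x = ((csv A S x : ℤ) : ZMod 2) := rfl

theorem csz_eq_zero_iff (A : Fin l → Fin l → ℤ) (S : List (Fin l)) (x : Fin l → ℤ) :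
    csz A S x = 0 ↔ Even (csv A S x) := by
  rw [csz_apply, ZMod.intCast_zmod_eq_zero_iff_dvd, even_iff_two_dvd]
  rfl

include hp in
theorem csz_vec (S : List (Fin l)) {r : ℕ} (hr : r < D.nroots) :
    csz (cartanOf D l) S (vec D l r) = 0 ↔ Even (csum D S r) := by
  rw [csz_eq_zero_iff, csv_vec hp S hr]

theorem sgnEl_zS (S : List (Fin l)) :
    SgnEl cs hp.isCartan (TT D K) (XX D l K) (csz (cartanOf D l) S) (zS hp K S) where
  mem := zS_mem_T hp K S
  fix a ha h0 u hu := by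
    obtain ⟨r, hr, rfl⟩ := (isRoot_iff hp cs a).1 ha
    exact commute_zS hp K hr ((csz_vec hp S hr).1 h0) hu
  inv a ha h0 u hu := by
    obtain ⟨r, hr, rfl⟩ := (isRoot_iff hp cs a).1 ha
    have h1 : Odd (csum D S r) := by
      rw [← Int.not_even_iff_odd]
      exact fun h => h0 ((csz_vec hp S hr).2 h)
    obtain ⟨t, ht⟩ := (mem_XX hp K hr).1 hu
    have h3 := conj_zS hp K S hr t
    rw [h1.neg_one_zpow, neg_one_mul, ← ht] at h3
    apply Subtype.ext
    rw [Subgroup.coe_mul, Subgroup.coe_mul, Subgroup.coe_inv, Subgroup.coe_inv, h3, ht, xG_inv]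

theorem range_phi (i : Fin l) : (phi hp K i).range = AA (XX D l K) (sr i) := by
  have h0 := RootVec.simple_lt hp.checked (lt_rank hp i)
  have e1 : (sr i : Fin l → ℤ) = vec D l (D.simple i) := (vec_simple hp i).symm
  have e2 : (-sr i : Fin l → ℤ) = vec D l (D.neg (D.simple i)) := by rw [vec_neg hp h0, vec_simple hp i]
  apply le_antisymm
  · rintro _ ⟨g, rfl⟩
    have h1 : g ∈ (AA (XX D l K) (sr i)).comap (phi hp K i) := by
      refine (Subgroup.closure_le _).2 ?_ (SL2Hom.mem_closure_SL2 g)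
      rintro x (⟨t, rfl⟩ | ⟨t, rfl⟩)
      · refine (le_sup_left : XX D l K (sr i) ≤ AA (XX D l K) (sr i)) ?_
        rw [e1]
        exact (mem_XX hp K h0).2 ⟨t, phi_up hp K i t⟩
      · refine (le_sup_right : XX D l K (-sr i) ≤ AA (XX D l K) (sr i)) ?_
        rw [e2]
        exact (mem_XX hp K (neg_lt hp.checked h0)).2 ⟨t, phi_lo hp K i t⟩
    exact h1
  · refine sup_le ?_ ?_ <;> intro u hu
    · rw [e1] at hu
      obtain ⟨t, ht⟩ := (mem_XX hp K h0).1 hu
      exact ⟨SL2Hom.up t, Subtype.ext (by rw [phi_up, ht])⟩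
    · rw [e2] at hu
      obtain ⟨t, ht⟩ := (mem_XX hp K (neg_lt hp.checked h0)).1 hu
      exact ⟨SL2Hom.lo t, Subtype.ext (by rw [phi_lo, ht])⟩

/-- the fundamental roots -/
theorem rt_simple [Fintype K] (p : ℕ) [CharP K p] (i : Fin l) :
    Rt cs hp.isCartan p (TT D K) (XX D l K) (sr i) (zS hp K [i]) (csz (cartanOf D l) [i]) where
  root := isRoot_sr cs hp.isCartan i
  sl := ⟨K, inferInstance, inferInstance, inferInstance, phi hp K i, range_phi hp K i, by
    rw [zS_cons, zS_nil, mul_one]⟩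
  sgn := sgnEl_zS hp K cs [i]

variable {K}

/-- the elements of the torus with `t² = 1` are sign elements -/
theorem exists_sgn [Finite K] (p : ℕ) [Fact p.Prime] [CharP K p] (h2 : (2 : K) ≠ 0) {t : ↥(D.group K)}
    (ht : t ∈ TT D K) (htt : t * t = 1) :
    ∃ n < 2 ^ l, SgnEl cs hp.isCartan (TT D K) (XX D l K) (bits l n) t := by
  obtain ⟨φ, h0, hadd, hφ⟩ := BpExc.TorChev.chAdd (K := K) hp cs p t ht
  have hact : ∀ {r : ℕ}, r < D.nroots → ∀ {u : ↥(D.group K)}, u ∈ XX D l K (vec D l r) →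
      ∃ a, u = xc hp (vec D l r) a ∧ t * u * t⁻¹ = xc hp (vec D l r) (φ (vec D l r) * a) := by
    intro r hr u hu
    obtain ⟨a, ha⟩ := (mem_XX hp K hr).1 hu
    have h1 : u = xc hp (vec D l r) a := Subtype.ext (by rw [coe_xc hp hr, ha])
    refine ⟨a, h1, ?_⟩
    rw [h1, (act hp hr ht).2 a, hφ _ (isRoot_vec hp cs hr)]
  have hs : ∀ k, φ (sr k) = 1 ∨ φ (sr k) = -1 := by
    intro k
    have hr := RootVec.simple_lt hp.checked (lt_rank hp k)
    have h1 := (act (K := K) hp hr ht).2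
    have h3 := h1 1
    have h4 : t * (t * xc hp (vec D l (D.simple k)) 1 * t⁻¹) * t⁻¹ = xc hp (vec D l (D.simple k)) 1 := by
      have : t * (t * xc hp (vec D l (D.simple k)) 1 * t⁻¹) * t⁻¹ =
        (t * t) * xc hp (vec D l (D.simple k)) 1 * (t * t)⁻¹ := by group
      rw [this, htt, one_mul, inv_one, mul_one]
    rw [h3, h1] at h4
    have h5 := KFacts.RgdChevCoord.xc_inj hp hr h4
    rw [hφ _ (isRoot_vec hp cs hr), vec_simple hp k, mul_one] at h5
    exact mul_self_eq_one_iff.1 h5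
  obtain ⟨n, hn, hnx⟩ := exists_mask h2 φ h0 hadd hs
  have hneg : (-1 : K) ≠ 1 := by
    intro h
    apply h2
    linear_combination -h
  refine ⟨n, hn, ht, ?_, ?_⟩
  · intro a ha h3 u hu
    obtain ⟨r, hr, rfl⟩ := (isRoot_iff hp cs a).1 ha
    obtain ⟨b, rfl, h4⟩ := hact hr hu
    rcases hnx (vec D l r) with ⟨-, h5⟩ | ⟨h5, -⟩
    · rw [h5, one_mul] at h4
      exact mul_inv_eq_iff_eq_mul.1 h4
    · exact absurd h3 h5
  · intro a ha h3 u hu
    obtain ⟨r, hr, rfl⟩ := (isRoot_iff hp cs a).1 ha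
    obtain ⟨b, rfl, h4⟩ := hact hr hu
    rcases hnx (vec D l r) with ⟨h5, -⟩ | ⟨-, h5⟩
    · exact absurd h5 h3
    · rw [h5, neg_one_mul] at h4
      rw [h4]
      apply Subtype.ext
      rw [Subgroup.coe_inv, coe_xc hp hr, coe_xc hp hr, xG_inv]

end

end Cfsg.Agent.H557.LrChev
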