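import Cfsg.Agent.H557.LrAbs
import Cfsg.Agent.Cit.LongAbs
import Cfsg.Agent.ChevalleyStructure.SL2Hom

/-!
helper557: images of `SL(2, K)`, `K` finite of odd order, satisfy `Beta` (except the condition on the centralizer).

* `sl_facts` : `-1 ∈ [[SL₂, SL₂], SL₂]`; normal subgroups of `SL₂`;
* `beta_of_hom` : `Beta f.range (f (-1))`;
* `range_perfect` : `|K| ≠ 3`: the image is perfect.
-/

set_option autoImplicit false

namespace Cfsg.Agent.H557.LrSL

open Subgroup Cfsg Cfsg.Agent.SignalizersComponents.Components Cfsg.Agent.H557.LrAbs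
open Cfsg.Agent.Cit.LongSL3 (S3)
open scoped commutatorElement MatrixGroups

theorem three_low : ∃ x y w : S3, ⁅⁅x, y⁆, w⁆ * ⁅⁅x, y⁆, w⁆ = -1 := by
  decide +kernel

theorem three_nrm : ∀ g : S3, g ≠ 1 → g ≠ -1 → g * g = -1 ∨ g * g * g = -1 ∨
    ∃ h : S3, (g * (h * g⁻¹ * h⁻¹)) * (g * (h * g⁻¹ * h⁻¹)) = -1 := by
  decide +kernel

theorem three_sq : ∀ x : S3, x * x = 1 → x = 1 ∨ x = -1 := by
  decide +kernel

theorem three_solvable : Group.IsSolvable S3 := by
  have h2 : Group.IsSolvable (⊤ : Subgroup S3) :=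
    Cfsg.Agent.Cit.LongAbs.isSolvable_E (E := (⊤ : Subgroup S3)) Subgroup.topEquiv
  exact Group.isSolvable_of_surjective (f := (Subgroup.topEquiv : (⊤ : Subgroup S3) ≃* S3).toMonoidHom)
    (Subgroup.topEquiv).surjective

/-- The facts used below. -/
def Facts (G : Type*) [Group G] (m : G) : Prop :=
  m ∈ ⁅⁅(⊤ : Subgroup G), (⊤ : Subgroup G)⁆, (⊤ : Subgroup G)⁆ ∧ ∀ N : Subgroup G, N.Normal → (∀ x ∈ N, x = 1 ∨ x = m) ∨
    (m ∈ N ∧ (N = ⊤ ∨ Group.IsSolvable G))

theorem Facts.of_equiv {G G' : Type*} [Group G] [Group G'] (e : G ≃* G') {m : G} (h : Facts G' (e m)) :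
    Facts G m := by
  constructor
  · have h1 : (⁅⁅(⊤ : Subgroup G), (⊤ : Subgroup G)⁆, (⊤ : Subgroup G)⁆).map e.toMonoidHom =
      ⁅⁅(⊤ : Subgroup G'), (⊤ : Subgroup G')⁆, (⊤ : Subgroup G')⁆ := by
      rw [Subgroup.map_commutator, Subgroup.map_commutator]
      have : (⊤ : Subgroup G).map e.toMonoidHom = ⊤ := by
        rw [← MonoidHom.range_eq_map, MonoidHom.range_eq_top]; exact e.surjective
      rw [this]
    have h2 := h.1
    rw [← h1] at h2
    obtain ⟨x, hx, hxe⟩ := h2
    have : x = m := e.injective hxe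
    rwa [← this]
  · intro N hN
    have hN' : (N.map e.toMonoidHom).Normal := hN.map _ e.surjective
    rcases h.2 _ hN' with h1 | ⟨h1, h2⟩
    · left
      intro x hx
      rcases h1 (e x) (Subgroup.mem_map_of_mem _ hx) with h3 | h3
      · left; apply e.injective; rw [h3, map_one]
      · right; exact e.injective h3
    · right
      refine ⟨?_, ?_⟩
      · obtain ⟨x, hx, hxe⟩ := h1
        have : x = m := e.injective hxe
        rwa [← this]
      · rcases h2 with h2 | h2
        · left
          rw [eq_top_iff]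
          intro x _
          have h3 : e x ∈ N.map e.toMonoidHom := by rw [h2]; exact Subgroup.mem_top _
          obtain ⟨y, hy, hye⟩ := h3
          have : y = x := e.injective hye
          rwa [← this]
        · right
          exact Group.isSolvable_of_surjective (f := e.symm.toMonoidHom) e.symm.surjective

theorem facts_three : Facts S3 (-1) := by
  constructor
  · obtain ⟨x, y, w, h⟩ := three_low
    rw [← h]
    have h1 : ⁅⁅x, y⁆, w⁆ ∈ ⁅⁅(⊤ : Subgroup S3), (⊤ : Subgroup S3)⁆, (⊤ : Subgroup S3)⁆ :=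
      Subgroup.commutator_mem_commutator (Subgroup.commutator_mem_commutator (mem_top _) (mem_top _)) (mem_top _)
    exact mul_mem h1 h1
  · intro N hN
    by_cases h : ∀ x ∈ N, x = 1 ∨ x = -1
    · exact Or.inl h
    right
    refine ⟨?_, Or.inr three_solvable⟩
    push Not at h
    obtain ⟨g, hg, h1, h2⟩ := h
    rcases three_nrm g h1 h2 with h3 | h3 | ⟨k, h3⟩
    · rw [← h3]; exact mul_mem hg hg
    · rw [← h3]; exact mul_mem (mul_mem hg hg) hg
    · rw [← h3]
      have h4 : g * (k * g⁻¹ * k⁻¹) ∈ N := mul_mem hg (hN.conj_mem _ (inv_mem hg) k)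
      exact mul_mem h4 h4

variable {K : Type*} [Field K]

theorem center_sl {x : SL(2, K)} (hx : x ∈ center SL(2, K)) : x = 1 ∨ x = -1 := by
  obtain ⟨r, hr, hx⟩ := Matrix.SpecialLinearGroup.mem_center_iff.1 hx
  rw [Fintype.card_fin, pow_two, mul_self_eq_one_iff] at hr
  rcases hr with rfl | rfl
  · left
    apply Subtype.ext
    rw [← hx, map_one]; rfl
  · right
    apply Subtype.ext
    rw [← hx, map_neg, map_one]; rfl

theorem neg_one_ne' (h2 : (2 : K) ≠ 0) : (-1 : SL(2, K)) ≠ 1 := by
  intro h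
  have h1 := congrArg (fun g : SL(2, K) => (g : Matrix (Fin 2) (Fin 2) K) 0 0) h
  simp at h1
  apply h2
  linear_combination -h1

theorem sl_facts [Fintype K] (ho : Odd (Fintype.card K)) (h2 : (2 : K) ≠ 0) : Facts SL(2, K) (-1) := by
  by_cases h3 : Fintype.card K = 3
  · obtain ⟨e⟩ := Cfsg.Agent.Cit.LongAbs.equiv_S3 h3
    refine Facts.of_equiv e ?_
    have h4 : e (-1) = -1 := by
      refine (three_sq (e (-1)) ?_).resolve_left fun h => ?_
      · rw [← map_mul, neg_one_mul, neg_neg, map_one]
      · exact neg_one_ne' h2 (e.injective (by rw [h, map_one]))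
    rw [h4]
    exact facts_three
  · have hq := Cfsg.Agent.Cit.LongAbs.quasisimple_SL2 ho h3
    have hp : ⁅(⊤ : Subgroup SL(2, K)), (⊤ : Subgroup SL(2, K))⁆ = ⊤ := by
      have := quasisimple_isPerfect hq
      exact Group.IsPerfect.commutator_eq_top
    refine ⟨by rw [hp, hp]; exact mem_top _, fun N hN => ?_⟩
    rcases quasisimple_normal hq N hN with h | h
    · right
      exact ⟨by rw [h]; exact mem_top _, Or.inl h⟩
    · left
      intro x hx
      exact center_sl (h hx)

open Cfsg.Agent.ChevalleyStructure.SL2Hom (up lo mem_closure_SL2)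

theorem up_pow (t : K) (n : ℕ) : (up t : SL(2, K)) ^ n = up (n * t) := by
  induction n with
  | zero =>
    rw [pow_zero, Nat.cast_zero, zero_mul]
    apply Subtype.ext
    show (1 : Matrix (Fin 2) (Fin 2) K) = !![1, 0; 0, 1]
    exact Matrix.one_fin_two
  | succ n ih =>
    rw [pow_succ, ih]
    apply Subtype.ext
    show !![1, (n : K) * t; 0, 1] * !![1, t; 0, 1] = !![1, ((n + 1 : ℕ) : K) * t; 0, 1]
    rw [Matrix.mul_fin_two]
    congr 1
    ext i j
    fin_cases i <;> fin_cases j <;> simp
    ring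

theorem lo_pow (t : K) (n : ℕ) : (lo t : SL(2, K)) ^ n = lo (n * t) := by
  induction n with
  | zero =>
    rw [pow_zero, Nat.cast_zero, zero_mul]
    apply Subtype.ext
    show (1 : Matrix (Fin 2) (Fin 2) K) = !![1, 0; 0, 1]
    exact Matrix.one_fin_two
  | succ n ih =>
    rw [pow_succ, ih]
    apply Subtype.ext
    show !![1, 0; (n : K) * t, 1] * !![1, 0; t, 1] = !![1, 0; ((n + 1 : ℕ) : K) * t, 1]
    rw [Matrix.mul_fin_two]
    congr 1
    ext i j
    fin_cases i <;> fin_cases j <;> simp
    ring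

theorem up_zero : (up (0 : K)) = 1 := by
  apply Subtype.ext
  show !![1, 0; 0, 1] = (1 : Matrix (Fin 2) (Fin 2) K)
  exact Matrix.one_fin_two.symm

theorem lo_zero : (lo (0 : K)) = 1 := by
  apply Subtype.ext
  show !![1, 0; 0, 1] = (1 : Matrix (Fin 2) (Fin 2) K)
  exact Matrix.one_fin_two.symm

theorem odd_gens {p : ℕ} [CharP K p] (hp : Odd p) {x : SL(2, K)}
    (hx : x ∈ Set.range (up (F := K)) ∪ Set.range (lo (F := K))) : Odd (orderOf x) := by
  have h1 : x ^ p = 1 := by
    rcases hx with ⟨t, rfl⟩ | ⟨t, rfl⟩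
    · rw [up_pow, CharP.cast_eq_zero, zero_mul, up_zero]
    · rw [lo_pow, CharP.cast_eq_zero, zero_mul, lo_zero]
  exact Odd.of_dvd_nat hp (orderOf_dvd_of_pow_eq_one h1)

variable {H : Type*} [Group H]

/-- The image of `SL(2, K)`. -/
theorem beta_of_hom [Fintype K] {p : ℕ} [CharP K p] (hp : Odd p) (ho : Odd (Fintype.card K)) (h2 : (2 : K) ≠ 0)
    (f : SL(2, K) →* H) (hc : centralizer {f (-1)} ≤ normalizer (f.range : Set H)) : Beta f.range (f (-1)) where
  mem := ⟨-1, rfl⟩
  comm := by
    rintro _ ⟨g, rfl⟩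
    rw [← map_mul, ← map_mul]
    congr 1
    rw [neg_one_mul, mul_neg_one]
  sq := by rw [← map_mul, neg_one_mul, neg_neg, map_one]
  gen := by
    rintro _ ⟨g, rfl⟩
    have h1 : Subgroup.closure (Set.range (up (F := K)) ∪ Set.range (lo (F := K))) ≤
        (Subgroup.closure {y | y ∈ f.range ∧ Odd (orderOf y)}).comap f := by
      refine (Subgroup.closure_le _).2 fun x hx => ?_
      refine Subgroup.subset_closure ⟨⟨x, rfl⟩, ?_⟩
      exact Odd.of_dvd_nat (odd_gens hp hx) (orderOf_map_dvd f x)
    exact h1 (mem_closure_SL2 g)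
  low := by
    have h1 := (sl_facts ho h2).1
    have h3 : f.range = (⊤ : Subgroup SL(2, K)).map f := MonoidHom.range_eq_map f
    rw [h3, ← Subgroup.map_commutator, ← Subgroup.map_commutator]
    exact Subgroup.mem_map_of_mem f h1
  nrm := by
    intro N hN hn
    have hN' : (N.comap f).Normal := by
      constructor
      intro x hx g
      rw [Subgroup.mem_comap] at hx ⊢
      rw [map_mul, map_mul, map_inv]
      exact conj_mem (hn ⟨g, rfl⟩) hx
    rcases (sl_facts ho h2).2 _ hN' with h1 | ⟨h1, h3⟩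
    · left
      intro x hx
      obtain ⟨g, rfl⟩ := hN hx
      rcases h1 g hx with rfl | rfl
      · left; exact map_one f
      · right; rfl
    · right
      refine ⟨h1, fun J hJ hJp => ?_⟩
      rcases h3 with h3 | h3
      · refine le_trans hJ ?_
        rintro _ ⟨g, rfl⟩
        have : g ∈ N.comap f := by rw [h3]; exact mem_top _
        exact this
      · have hs : Group.IsSolvable ↥f.range :=
          Group.isSolvable_of_surjective (f := f.rangeRestrict) f.rangeRestrict_surjective
        have hJs : Group.IsSolvable ↥J :=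
          Group.isSolvable_of_isSolvable_injective (f := Subgroup.inclusion hJ) (Subgroup.inclusion_injective hJ)
        have hJt : J = ⊥ := by
          by_contra hne
          have : Nontrivial ↥J := (Subgroup.nontrivial_iff_ne_bot J).2 hne
          have h5 := Group.IsSolvable.commutator_lt_top_of_nontrivial ↥J
          apply h5.ne
          apply Subgroup.map_injective J.subtype_injective
          rw [_root_.commutator_def, Subgroup.map_commutator, ← MonoidHom.range_eq_map, Subgroup.range_subtype, hJp]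
        rw [hJt]; exact bot_le
  cent := hc

/-- `|K| ≠ 3` : the image is perfect -/
theorem range_perfect [Fintype K] (ho : Odd (Fintype.card K)) (h3 : Fintype.card K ≠ 3) (f : SL(2, K) →* H) :
    ⁅f.range, f.range⁆ = f.range := by
  have hq := Cfsg.Agent.Cit.LongAbs.quasisimple_SL2 ho h3
  have hp : ⁅(⊤ : Subgroup SL(2, K)), (⊤ : Subgroup SL(2, K))⁆ = ⊤ := by
    have := quasisimple_isPerfect hq
    exact Group.IsPerfect.commutator_eq_top
  have h4 : f.range = (⊤ : Subgroup SL(2, K)).map f := MonoidHom.range_eq_map f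
  rw [h4, ← Subgroup.map_commutator, hp]

/-- `|K| = 3` : the image is solvable -/
theorem range_solvable [Fintype K] (h3 : Fintype.card K = 3) (f : SL(2, K) →* H) : Group.IsSolvable ↥f.range := by
  obtain ⟨e⟩ := Cfsg.Agent.Cit.LongAbs.equiv_S3 h3
  have h1 : Group.IsSolvable SL(2, K) := by
    have := three_solvable
    exact Group.isSolvable_of_surjective (f := e.symm.toMonoidHom) e.symm.surjective
  exact Group.isSolvable_of_surjective (f := f.rangeRestrict) f.rangeRestrict_surjective

end Cfsg.Agent.H557.LrSL
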