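import Cfsg.Agent.H557.LrOrb
import Cfsg.Agent.H557.LrSL
import Cfsg.Agent.SignalizersComponents.ComponentImage

/-!
helper557: long root subgroups of the centralizer of a sign element.

* `IsSL p B z` : `B` is an image of `SL₂(F)`, `z` the image of `-1`;
* `Rt a z ψ` : the root `a` with `⟨X a, X (-a)⟩` an image of `SL₂(F)`, `z` acts by the character `ψ`; `Rt.conj`;
* `cent_le_norm_AA` : `C(S)` normalises `⟨X a, X (-a)⟩` (after `Cfsg.Agent.AschComp.Exc.cent_le_norm_LL`).
-/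

set_option autoImplicit false
set_option linter.unusedSectionVars false

namespace Cfsg.Agent.H557.LrIso

open CoxeterSystem Cfsg.Agent.ChevalleyStructure.CoxeterGeom Cfsg.Agent.Tits.Roots Cfsg.Agent.Tits.Core
  Cfsg.Agent.Tits.RootComb Cfsg.Agent.Tits.Exchange Cfsg.Agent.Nodes.Reps Cfsg.Agent.Nodes.BNOf
  Cfsg.Agent.Nodes.StabComb Cfsg.Agent.Nodes.Bruhat Cfsg.Agent.Nodes.Coroot Cfsg.Agent.Nodes.RGDLib
  Cfsg.Agent.H557.LrAbs Cfsg.Agent.H557.LrSgn Cfsg.Agent.H557.LrTor Cfsg.Agent.H557.LrOrb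
open Cfsg Cfsg.Agent.SignalizersComponents Cfsg.Agent.SignalizersComponents.Components
open Cfsg.Agent.GenExc (EvenSet CommOK NI)
open scoped commutatorElement MatrixGroups

section SL

variable {Y : Type*} [Group Y] {p : ℕ} {B : Subgroup Y} {z : Y}

/-- `B` is the image of a homomorphism from `SL₂(F)`, `F` a finite field of characteristic `p`, `z` the image of `-1` -/
def IsSL (p : ℕ) (B : Subgroup Y) (z : Y) : Prop :=
  ∃ (F : Type) (_ : Field F) (_ : Fintype F) (_ : CharP F p) (f : SL(2, F) →* Y), f.range = B ∧ f (-1) = z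

theorem IsSL.conj (h : IsSL p B z) (g : Y) : IsSL p (B.map (MulAut.conj g).toMonoidHom) (g * z * g⁻¹) := by
  obtain ⟨F, i1, i2, i3, f, rfl, rfl⟩ := h
  refine ⟨F, i1, i2, i3, (MulAut.conj g).toMonoidHom.comp f, ?_, rfl⟩
  rw [MonoidHom.range_comp]

theorem odd_card {F : Type*} [Field F] [Fintype F] [CharP F p] (hp : Odd p) : Odd (Fintype.card F) ∧ (2 : F) ≠ 0 := by
  have hpp : p.Prime := (CharP.char_is_prime_or_zero F p).resolve_right (CharP.char_ne_zero_of_finite F p)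
  constructor
  · obtain ⟨n, -, hn⟩ := FiniteField.card F p
    rw [hn]
    exact hp.pow
  · intro h
    have h1 : ((2 : ℕ) : F) = 0 := by exact_mod_cast h
    rw [CharP.cast_eq_zero_iff F p] at h1
    have h2 := (Nat.prime_dvd_prime_iff_eq hpp Nat.prime_two).1 h1
    rw [h2] at hp
    exact (by decide : ¬ Odd 2) hp

theorem IsSL.beta (h : IsSL p B z) (hp : Odd p) (hc : Subgroup.centralizer {z} ≤ Subgroup.normalizer (B : Set Y)) :
    Beta B z := by
  obtain ⟨F, i1, i2, i3, f, rfl, rfl⟩ := h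
  obtain ⟨h1, h2⟩ := odd_card (F := F) hp
  exact LrSL.beta_of_hom hp h1 h2 f hc

theorem IsSL.mem (h : IsSL p B z) : z ∈ B := by
  obtain ⟨F, i1, i2, i3, f, rfl, rfl⟩ := h
  exact ⟨-1, rfl⟩

theorem IsSL.solv_or_qs (h : IsSL p B z) (hp : Odd p) (hB : B ≠ ⊥) : Group.IsSolvable ↥B ∨ IsQuasisimple ↥B := by
  obtain ⟨F, i1, i2, i3, f, rfl, rfl⟩ := h
  obtain ⟨h1, h2⟩ := odd_card (F := F) hp
  by_cases h3 : Fintype.card F = 3
  · exact Or.inl (LrSL.range_solvable h3 f)
  · right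
    have : Nontrivial ↥f.range := (Subgroup.nontrivial_iff_ne_bot _).2 hB
    exact ComponentImage.isQuasisimple_of_surjective (Cfsg.Agent.Cit.LongAbs.quasisimple_SL2 h1 h3) f.rangeRestrict
      f.rangeRestrict_surjective this

end SL

section RGD

variable {I W Y : Type*} [Fintype I] [DecidableEq I] [Group W] [Group Y] {M : CoxeterMatrix I}
  {cs : CoxeterSystem M W} {A : I → I → ℤ} {h : IsCartan M A} {p : ℕ} {T : Subgroup Y} {n : I → Y}
  {X : (I → ℤ) → Subgroup Y}

/-- a root with its rank one group -/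
structure Rt (cs : CoxeterSystem M W) (h : IsCartan M A) (p : ℕ) (T : Subgroup Y) (X : (I → ℤ) → Subgroup Y)
    (a : I → ℤ) (z : Y) (ψ : (I → ℤ) →+ ZMod 2) : Prop where
  root : IsRoot cs h a
  sl : IsSL p (AA X a) z
  sgn : SgnEl cs h T X ψ z

theorem AA_conj (R : RGD cs h p T n X) {w : W} {k : Y} (hk : Rp cs R.nsys w k) {a : I → ℤ} (ha : IsRoot cs h a) :
    AA X (rep cs h w a) = (AA X a).map (MulAut.conj k).toMonoidHom := by
  have h1 := R.conj_rp hk ha
  have h2 := R.conj_rp hk ha.neg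
  rw [map_neg] at h2
  unfold AA
  rw [Subgroup.map_sup]
  exact (congrArg₂ (· ⊔ ·) h1 h2).symm

theorem Rt.conj (R : RGD cs h p T n X) {a : I → ℤ} {z : Y} {ψ : (I → ℤ) →+ ZMod 2} (H : Rt cs h p T X a z ψ)
    {w : W} {k : Y} (hk : Rp cs R.nsys w k) :
    Rt cs h p T X (rep cs h w a) (k * z * k⁻¹) (ψ.comp (rep cs h w⁻¹).toAddMonoidHom) where
  root := H.root.act w
  sl := by
    rw [AA_conj R hk H.root]
    exact H.sl.conj k
  sgn := H.sgn.conj R hk

/-- the normaliser condition is invariant under conjugation -/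
theorem norm_conj (R : RGD cs h p T n X) {a : I → ℤ} (ha : IsRoot cs h a) {z : Y} {w : W} {k : Y}
    (hk : Rp cs R.nsys w k)
    (hc : Subgroup.centralizer {k * z * k⁻¹} ≤ Subgroup.normalizer (AA X (rep cs h w a) : Set Y)) :
    Subgroup.centralizer {z} ≤ Subgroup.normalizer (AA X a : Set Y) := by
  rw [AA_conj R hk ha, ← cent_map_conj] at hc
  intro x hx
  have h1 := Subgroup.mem_normalizer_iff.1 (hc ⟨x, hx, rfl⟩)
  refine Subgroup.mem_normalizer_iff.2 fun y => ?_
  have hinj : Function.Injective (MulAut.conj k).toMonoidHom := (MulAut.conj k).injective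
  have key : ∀ v : Y, v ∈ AA X a ↔ k * v * k⁻¹ ∈ (AA X a).map (MulAut.conj k).toMonoidHom := by
    intro v
    constructor
    · intro hv; exact ⟨v, hv, rfl⟩
    · rintro ⟨u, hu, e⟩
      have : u = v := hinj e
      rwa [← this]
  rw [key y, key (x * y * x⁻¹), h1]
  have e : (MulAut.conj k).toMonoidHom x * (k * y * k⁻¹) * ((MulAut.conj k).toMonoidHom x)⁻¹ =
      k * (x * y * x⁻¹) * k⁻¹ := by
    show k * x * k⁻¹ * (k * y * k⁻¹) * (k * x * k⁻¹)⁻¹ = _
    group
  rw [e]

/-! ### isolated roots -/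

variable {S : Set Y} {E : Set (I → ℤ)}

/-- `± a` are the roots in `E` outside `NI E` -/
def Iso (cs : CoxeterSystem M W) (h : IsCartan M A) (E : Set (I → ℤ)) (a : I → ℤ) : Prop :=
  ∀ x, x ∈ E ∧ x ∉ NI cs h E ↔ x = a ∨ x = -a

theorem comm_of_NI (hc : CommOK cs h X) (hE : EvenSet cs h X S E) {a b x : I → ℤ} (ha : Iso cs h E a)
    (hb : b = a ∨ b = -a) (hx : x ∈ NI cs h E) : ∀ u ∈ X x, ∀ v ∈ X b, u * v = v * u := by
  have h1 := (ha b).2 hb
  have h2 := (ha (-b)).2 (by rcases hb with rfl | rfl <;> simp)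
  refine hc x b (hE.root x hx.1) (hE.root b h1.1) ?_ ?_
  · rintro rfl
    exact h2.2 hx
  · intro hr
    exact h1.2 ⟨h1.1, x, hx.1, by rwa [add_comm]⟩

theorem comm_AA (hc : CommOK cs h X) (hE : EvenSet cs h X S E) {a x : I → ℤ} (ha : Iso cs h E a)
    (hx : x ∈ NI cs h E) : ∀ u ∈ X x, ∀ v ∈ AA X a, u * v = v * u := by
  intro u hu
  have h1 : AA X a ≤ Subgroup.centralizer ({u} : Set Y) := by
    refine sup_le ?_ ?_ <;> intro v hv <;> rw [Subgroup.mem_centralizer_iff] <;> rintro _ rfl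
    · exact comm_of_NI hc hE ha (Or.inl rfl) hx _ hu _ hv
    · exact comm_of_NI hc hE ha (Or.inr rfl) hx _ hu _ hv
  intro v hv
  exact Subgroup.mem_centralizer_iff.1 (h1 hv) u rfl

theorem mem_norm_of_comm {H : Subgroup Y} {u : Y} (h : ∀ v ∈ H, u * v = v * u) :
    u ∈ Subgroup.normalizer (H : Set Y) := by
  apply Subgroup.centralizer_le_normalizer
  rw [Subgroup.mem_centralizer_iff]
  exact fun v hv => (h v hv).symm

/-- **`C(S)` normalizes `⟨X a, X (-a)⟩`.** -/
theorem cent_le_norm_AA [Finite W] (R : RGD cs h p T n X) (hS : S ⊆ T) (hG : GG cs h T X = ⊤) (hc : CommOK cs h X)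
    (hE : EvenSet cs h X S E) {a : I → ℤ} (ha : Iso cs h E a) :
    Subgroup.centralizer S ≤ Subgroup.normalizer (AA X a : Set Y) := by
  intro g hg
  obtain ⟨u, hu, w, k, hk, hkS, v, hv, rfl⟩ := Cfsg.Agent.Nodes.NormalForm.mem_centralizer R
    hS (by rw [hG]; trivial) hg
  have h1 : RGD.Sup (fun x => X x ⊓ Subgroup.centralizer S) (RGD.Pos cs h) ≤
      Subgroup.normalizer (AA X a : Set Y) := by
    refine RGD.Sup_le fun x hx u hu => ?_
    by_cases hxE : x ∈ E
    · by_cases hxN : x ∈ NI cs h E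
      · exact mem_norm_of_comm (comm_AA hc hE ha hxN u hu.1)
      · rcases (ha x).1 ⟨hxE, hxN⟩ with rfl | rfl
        · exact Subgroup.le_normalizer ((le_sup_left : X x ≤ AA X x) hu.1)
        · exact Subgroup.le_normalizer ((le_sup_right : X (-a) ≤ AA X a) hu.1)
    · have h2 := hE.odd x hx.1 hxE
      have h3 : u ∈ X x ⊓ Subgroup.centralizer S := hu
      rw [h2, Subgroup.mem_bot] at h3
      rw [h3]; exact one_mem _
  have h2 : k ∈ Subgroup.normalizer (AA X a : Set Y) := by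
    have har := hE.root a ((ha a).2 (Or.inl rfl)).1
    have key : ∀ {w : W} {k : Y}, Rp cs R.nsys w k → k ∈ Subgroup.centralizer S →
        cj k (AA X a) ≤ AA X a := by
      intro w k hk hkS
      have h3 : rep cs h w a = a ∨ rep cs h w a = -a := by
        rw [← ha]
        obtain ⟨h4, h5⟩ := (ha a).2 (Or.inl rfl)
        refine ⟨hE.act R hk hkS h4, fun h6 => h5 ?_⟩
        have h7 := NI.act R hE hk.inv (inv_mem hkS) h6
        rwa [rep_inv_apply] at h7
      unfold AA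
      rw [cj_sup, R.conj_rp hk har, R.conj_rp hk har.neg, map_neg]
      rcases h3 with h3 | h3 <;> rw [h3]
      rw [neg_neg, sup_comm]
    rw [mem_normalizer_iff_cj]
    apply le_antisymm (key hk hkS)
    have h3 := key hk.inv (inv_mem hkS)
    have h4 : cj k (cj k⁻¹ (AA X a)) ≤ cj k (AA X a) := cj_mono k h3
    rwa [← cj_mul, mul_inv_cancel, cj_one] at h4
  exact mul_mem (mul_mem (h1 hu) h2) (h1 hv)

end RGD

end Cfsg.Agent.H557.LrIso
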