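import Cfsg.Agent.H557.LrNon
import Cfsg.Agent.H557.LrFam

/-!
helper557: `E₇(q)`, `q` odd: the centralizer of an involution has at most two components, if all its perfect subgroups
lie in the layer: `numLe_E7`.
-/

set_option autoImplicit false
set_option linter.unusedSectionVars false
set_option maxHeartbeats 400000

namespace Cfsg.Agent.H557.LrE7

open CoxeterSystem Cfsg.Agent.ChevalleyStructure.CoxeterGeom Cfsg.Agent.Tits.Roots Cfsg.Agent.Tits.Core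
  Cfsg.Agent.Tits.RootComb Cfsg.Agent.Nodes.Reps Cfsg.Agent.Nodes.BNOf
  Cfsg.Agent.Nodes.RGDLib Cfsg.Agent.Nodes.Bruhat Cfsg.Agent.Nodes.Coroot Cfsg.Agent.KFacts.RgdSL
open Cfsg.Lie Cfsg.Agent.ChevalleyStructure Cfsg.Agent.ChevalleyStructure.CoxeterGeomTypes
  Cfsg.Agent.Nodes.RGDChev
open Cfsg.Agent.KFacts.RgdChevCoord (TT XX nc)
open Cfsg.Agent.H557.LrAbs Cfsg.Agent.H557.LrSgn Cfsg.Agent.H557.LrTor Cfsg.Agent.H557.LrOrb Cfsg.Agent.H557.LrIso
  Cfsg.Agent.H557.LrNF Cfsg.Agent.H557.LrMov Cfsg.Agent.H557.LrChev Cfsg.Agent.H557.LrRho Cfsg.Agent.H557.LrNon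
  Cfsg.Agent.H557.LrData Cfsg.Agent.H557.LrFam
open Cfsg.Agent.GenExc (csv)
open Cfsg.Agent.GenExc.Chev (zS)
open Cfsg.Agent.H974.Exc (sym_E7 J_E7 fix_of_id wJ_E7 th7 pr7 sl_E7 cf isRoot_of cpr_of)
open Cfsg.Agent.UGT.U2.FOne

/-! ### Tables -/

/-- the frame -/
def bb : Fin 4 → (Fin 7 → ℤ) :=
  ![![1, 0, 0, 0, 0, 0, 0], ![1, 1, 2, 2, 1, 0, 0], ![1, 1, 2, 2, 2, 2, 1], ![1, 2, 2, 4, 3, 2, 1]]

/-- the coroots modulo `2` -/
def SS : Fin 4 → List (Fin 7) := ![[0], [0, 1, 4], [0, 1, 6], [0, 4, 6]]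

/-- the words -/
def om : Fin 4 → List (Fin 7) := ![[], [2, 3, 4, 1, 3, 2], [5, 6, 4, 5, 2, 3, 4, 1, 3, 2],
  [3, 4, 5, 6, 1, 3, 4, 5, 2, 3, 4, 1, 3, 2]]

/-- the swapped nodes -/
def jj : Fin 3 → Fin 7 := ![1, 4, 6]

/-- the pairs -/
def aa : Fin 4 → (Fin 7 → ℤ) :=
  ![![1, 0, 1, 1, 0, 0, 0], ![0, 0, 1, 1, 0, 0, 0], ![0, 0, 1, 1, 1, 1, 0], ![0, 1, 1, 2, 1, 1, 0]]

/-- the pairs -/
def ab : Fin 4 → (Fin 7 → ℤ) :=
  ![![0, 0, -1, -1, 0, 0, 0], ![1, 1, 1, 1, 1, 0, 0], ![1, 1, 1, 1, 1, 1, 1], ![1, 1, 1, 2, 2, 1, 1]]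

/-- from `b₀` to `-b_i` -/
def ap : Fin 4 → (Fin 7 → ℤ) :=
  ![![1, 0, 1, 1, 0, 0, 0], ![1, 0, 1, 1, 0, 0, 0], ![1, 0, 1, 1, 1, 1, 0], ![1, 1, 1, 2, 1, 1, 0]]

/-- from `b₀` to `b_i` -/
def am : Fin 4 → (Fin 7 → ℤ) :=
  ![![0, -1, -1, -1, -1, 0, 0], ![0, -1, -1, -1, -1, 0, 0], ![0, -1, -1, -1, -1, -1, -1],
    ![0, -1, -1, -2, -2, -1, -1]]

/-- the Cartan matrix -/
abbrev AE : Fin 7 → Fin 7 → ℤ := cartanOf chevE7 7

set_option backward.isDefEq.respectTransparency false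

set_option maxRecDepth 20000

theorem tab_bb : ∀ i : Fin 4, (∃ k ∈ List.range chevE7.nroots, vec chevE7 7 k = bb i) ∧ th7 (bb i) = bb i := by
  decide +kernel

theorem tab_ab : ∀ i : Fin 4, (∃ k ∈ List.range chevE7.nroots, vec chevE7 7 k = aa i) ∧
    (∃ k ∈ List.range chevE7.nroots, vec chevE7 7 k = ab i) ∧ aa i + ab i = bb i ∧ cf AE (aa i) (ab i) = -1 ∧
    cf AE (aa i) (th7 (ab i)) = 1 ∧ aa i ≠ th7 (ab i) ∧ cf AE (aa i) (th7 (aa i)) = 0 ∧
    cf AE (ab i) (th7 (ab i)) = 0 ∧ csv AE [0] (aa i) % 2 ≠ 0 ∧ csv AE [0] (ab i) % 2 ≠ 0 := by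
  decide +kernel

theorem tab_cn : ∀ i : Fin 4, i ≠ 0 → (∃ k ∈ List.range chevE7.nroots, vec chevE7 7 k = ap i) ∧
    (∃ k ∈ List.range chevE7.nroots, vec chevE7 7 k = am i) ∧ cf AE (bb 0) (ap i) = 1 ∧
    cf AE (bb 0) (am i) = 1 ∧ ap i + th7 (ap i) = bb 0 + bb i ∧ am i + th7 (am i) = bb 0 - bb i ∧
    cf AE (ap i) (th7 (ap i)) = 0 ∧ cf AE (am i) (th7 (am i)) = 0 := by
  decide +kernel

theorem tab_cn0 : cf AE (bb 1) (ap 1) = 1 ∧ ap 1 + th7 (ap 1) = bb 0 + bb 1 := by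
  decide +kernel

theorem tab_orth : (∀ j k : Fin 3, j ≠ k → cf AE (sr (jj j)) (sr (jj k)) = 0) ∧
    ∀ (i : Fin 4) (j : Fin 3), cf AE (bb i) (sr (jj j)) = 0 := by
  decide +kernel

theorem tab_jj : ∀ j : Fin 3, th7 (sr (jj j)) = -sr (jj j) ∧ ∃ k, AE (jj j) k = -1 := by
  decide +kernel

theorem tab_EE : ∀ r ∈ List.range chevE7.nroots, (∀ i : Fin 4, csv AE (SS i) (vec chevE7 7 r) % 2 = 0) →
    (∃ i : Fin 4, vec chevE7 7 r = bb i ∨ vec chevE7 7 r = -bb i) ∨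
      ∃ j : Fin 3, vec chevE7 7 r = sr (jj j) ∨ vec chevE7 7 r = -sr (jj j) := by
  decide +kernel

theorem tab_om : ∀ i : Fin 4, actW AE (om i) (sr 0) = bb i ∧
    ∀ k : Fin 7, (csv AE [0] (actW AE (om i).reverse (sr k)) - csv AE (SS i) (sr k)) % 2 = 0 := by
  decide +kernel

theorem csz_ne {S : List (Fin 7)} {c : Fin 7 → ℤ} (h : csv AE S c % 2 ≠ 0) : csz AE S c ≠ 0 := by
  intro h0
  rw [csz_eq_zero_iff, Int.even_iff] at h0
  exact h h0

section Nontoral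

variable {K : Type} [Field K] [Fintype K] (p : ℕ) [Fact p.Prime] [CharP K p] {W : Type*} [Group W] [Finite W]
  (cs : CoxeterSystem CoxeterMatrix.E₇ W)

/-- **the nontoral involutions**, centralising the root group of the first fundamental root -/
theorem nontoral (hp2 : Odd p) (hZ : Subgroup.center ↥(chevE7.group K) = ⊥) {t : ↥(chevE7.group K)} (htt : t * t = 1)
    {w : W} (hw : ∀ v, rep cs isType_E7.isCartan w v = th7 v)
    (hθ : ∀ c, IsRoot cs isType_E7.isCartan c →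
      cj t (XX chevE7 7 K c) = XX chevE7 7 K (rep cs isType_E7.isCartan w c))
    (h0 : Cn t (XX chevE7 7 K) (bb 0)) : NumLe 1 t := by
  have R := rgd (K := K) isType_E7 cs p
  have hs := sl_E7 cs
  have hG1 := G1_eq_top (K := K) isType_E7 cs
  have hG := KFacts.RgdRigid.GG_eq_top (T := TT chevE7 K) hG1
  have h2 := (odd_card (F := K) hp2).2
  have hfin : Finite ↥(chevE7.group K) := inferInstance
  have hrp := rp_of_cj R hG hθ
  have hb : ∀ i, IsRoot cs isType_E7.isCartan (bb i) := fun i => isRoot_of isType_E7 cs (tab_bb i).1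
  have hbθ : ∀ i, rep cs isType_E7.isCartan w (bb i) = bb i := fun i => by rw [hw, (tab_bb i).2]
  have hrt : ∀ i, Rt cs isType_E7.isCartan p (TT chevE7 K) (XX chevE7 7 K) (bb i) (zS isType_E7 K (SS i))
      (csz AE (SS i)) := by
    intro i
    have h1 := rt_word isType_E7 cs (K := K) p hZ 0 (om i) (SS i) (tab_om i).2
    rwa [(tab_om i).1] at h1
  have hcp : ∀ {x y : Fin 7 → ℤ} {c : ℤ}, IsRoot cs isType_E7.isCartan y → cf AE x y = c →
      cpr cs isType_E7.isCartan x y = c := fun {x y c} hy h => cpr_of isType_E7 hs x hy h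
  -- the root groups of the frame are centralised
  have hstep : ∀ {a c d : Fin 7 → ℤ}, IsRoot cs isType_E7.isCartan a → IsRoot cs isType_E7.isCartan c → th7 c = c →
      cf AE c a = 1 → cf AE a (th7 a) = 0 → a + th7 a = c - d → Cn t (XX chevE7 7 K) c → Cn t (XX chevE7 7 K) d := by
    intro a c d ha hc hcθ h1 h3 h4 hcn
    have haθ := ha.act w
    rw [hw] at haθ
    have h5 := cn_step R hs htt hθ ha hc (by rw [hw, hcθ]) (by rw [hw]; exact hcp haθ h3) hcn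
    rw [hw, hcp ha h1, one_smul, h4] at h5
    have : c - (c - d) = d := by abel
    rwa [this] at h5
  have hcn : ∀ i, Cn t (XX chevE7 7 K) (bb i) ∧ Cn t (XX chevE7 7 K) (-bb i) := by
    have key : ∀ i, i ≠ 0 → Cn t (XX chevE7 7 K) (bb i) ∧ Cn t (XX chevE7 7 K) (-bb i) := by
      intro i hi
      obtain ⟨k1, k2, k3, k4, k5, k6, k7, k8⟩ := tab_cn i hi
      refine ⟨?_, ?_⟩
      · exact hstep (isRoot_of isType_E7 cs k2) (hb 0) (tab_bb 0).2 k4 k8 k6 h0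
      · refine hstep (isRoot_of isType_E7 cs k1) (hb 0) (tab_bb 0).2 k3 k7 ?_ h0
        rw [k5, sub_neg_eq_add]
    intro i
    by_cases hi : i = 0
    · subst hi
      refine ⟨h0, ?_⟩
      obtain ⟨k1, k2, k3, k4, k5, k6, k7, k8⟩ := tab_cn 1 (by decide)
      refine hstep (isRoot_of isType_E7 cs k1) (hb 1) (tab_bb 1).2 tab_cn0.1 k7 ?_ (key 1 (by decide)).1
      rw [tab_cn0.2, sub_neg_eq_add, add_comm]
    · exact key i hi
  have he : ∀ j : Fin 3, IsRoot cs isType_E7.isCartan (sr (jj j)) := fun j => isRoot_sr cs isType_E7.isCartan (jj j)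
  have heθ : ∀ j : Fin 3, rep cs isType_E7.isCartan w (sr (jj j)) = -sr (jj j) := fun j => by
    rw [hw, (tab_jj j).1]
  refine numLe_one R hs htt hθ hp2 hG (Cfsg.Agent.GenExc.Chev.diag_comm isType_E7 K) (b := bb) (z := fun i => zS isType_E7 K (SS i))
    (ψ := fun i => csz AE (SS i)) (i0 := 0) (e := fun j => sr (jj j)) hb hcn (fun i => (hrt i).sgn)
    (fun i => (hrt i).sl.mem) ?_ ?_ he heθ ?_ ?_ ?_ ?_
  · have h3 : (bb 0 : Fin 7 → ℤ) = sr 0 := (tab_om 0).1.symm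
    have h4 := (hrt 0).sl
    rw [h3] at h4 ⊢
    exact h4.beta hp2 (rhoE7.norm_simple isType_E7 cs p hZ h2)
  · intro i
    obtain ⟨k1, k2, k3, k4, k5, k6, k7, k8, k9, k10⟩ := tab_ab i
    have r1 := isRoot_of isType_E7 cs k1
    have r2 := isRoot_of isType_E7 cs k2
    have r1' := r1.act w
    have r2' := r2.act w
    rw [hw] at r1' r2'
    refine ⟨aa i, ab i, ⟨r1, by rw [hw]; exact hcp r1' k7, csz_ne k9⟩, ⟨r2, by rw [hw]; exact hcp r2' k8, csz_ne k10⟩,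
      k3, hcp r2 k4, ?_, ?_⟩
    · rw [hw, hcp r2' k5]
      norm_num
    · rw [hw]
      exact k6
  · intro j k hjk
    exact hcp (he k) (tab_orth.1 j k hjk)
  · intro i j
    exact hcp (he j) (tab_orth.2 i j)
  · intro c hc hall
    obtain ⟨r, hr, rfl⟩ := (isRoot_iff isType_E7 cs c).1 hc
    refine tab_EE r (List.mem_range.2 hr) fun i => ?_
    have h3 := hall i
    rw [csz_eq_zero_iff, Int.even_iff] at h3
    exact h3
  · intro j
    obtain ⟨k, hk⟩ := (tab_jj j).2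
    exact hab_of isType_E7 p cs hrp htt hk (heθ j)

theorem pr02 (v : Fin 7 → ℤ) : pairing (cartanOf chevE7 7) 0 v = 2 * v 0 - v 2 ∧
    pairing (cartanOf chevE7 7) 2 v = 2 * v 2 - v 0 - v 3 := by
  have h1 : ∀ j : Fin 7, cartanOf chevE7 7 0 j = (![2, 0, -1, 0, 0, 0, 0] : Fin 7 → ℤ) j := by decide +kernel
  have h4 : ∀ j : Fin 7, cartanOf chevE7 7 2 j = (![-1, 0, 2, -1, 0, 0, 0] : Fin 7 → ℤ) j := by decide +kernel
  refine ⟨?_, ?_⟩
  · change ∑ j, cartanOf chevE7 7 0 j * v j = _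
    simp only [h1, Fin.sum_univ_succ]
    simp
    ring
  · change ∑ j, cartanOf chevE7 7 2 j * v j = _
    simp only [h4, Fin.sum_univ_succ]
    simp
    ring

/-- the reflections in the nodes `0` and `2` commute with `th7` -/
theorem th7_comm (i : Fin 7) (hi : i = 0 ∨ i = 2) (x : Fin 7 → ℤ) :
    rep cs isType_E7.isCartan (cs.simple i) (th7 x) = th7 (rep cs isType_E7.isCartan (cs.simple i) x) := by
  rw [rep_simple_eq, rep_simple_eq]
  rcases hi with rfl | rfl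
  · rw [(pr02 _).1, (pr02 _).1]
    funext k
    fin_cases k <;> simp [th7, sr]
  · rw [(pr02 _).2, (pr02 _).2]
    funext k
    fin_cases k <;> simp [th7, sr]

theorem tab_w : actW AE [2, 0] (sr 2) = sr 0 ∧ actW AE [2] (sr 0 + sr 2) = sr 0 ∧ cf AE (sr 0) (sr 2) = -1 ∧
    th7 (sr 0) = sr 0 ∧ th7 (sr 2) = sr 2 := by
  decide +kernel

/-- **the nontoral involutions** -/
theorem nontoral' (hp2 : Odd p) (hZ : Subgroup.center ↥(chevE7.group K) = ⊥) {t : ↥(chevE7.group K)} (htt : t * t = 1)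
    {w : W} (hw : ∀ v, rep cs isType_E7.isCartan w v = th7 v)
    (hθ : ∀ c, IsRoot cs isType_E7.isCartan c →
      cj t (XX chevE7 7 K c) = XX chevE7 7 K (rep cs isType_E7.isCartan w c)) : NumLe 1 t := by
  have R := rgd (K := K) isType_E7 cs p
  have hs := sl_E7 cs
  have hG1 := G1_eq_top (K := K) isType_E7 cs
  have hG := KFacts.RgdRigid.GG_eq_top (T := TT chevE7 K) hG1
  have hrp := rp_of_cj R hG hθ
  obtain ⟨k1, k2, k3, k4, k5⟩ := tab_w
  have r0 := isRoot_sr cs isType_E7.isCartan 0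
  have r2 := isRoot_sr cs isType_E7.isCartan 2
  have h3 : (bb 0 : Fin 7 → ℤ) = sr 0 := (tab_om 0).1.symm
  -- conjugation
  have hconj : ∀ {g : ↥(chevE7.group K)} {v : W}, Rp cs R.nsys v g →
      (∀ x, rep cs isType_E7.isCartan v (th7 x) = th7 (rep cs isType_E7.isCartan v x)) →
      ∀ {c : Fin 7 → ℤ}, IsRoot cs isType_E7.isCartan c → rep cs isType_E7.isCartan v c = sr 0 →
      Cn t (XX chevE7 7 K) c → NumLe 1 t := by
    intro g v hg hv c hc hvc hcn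
    obtain ⟨h4, h5⟩ := conj_step R hθ hg (fun x => by rw [hw, hw, hv]) hc hcn
    rw [hvc, ← h3] at h5
    refine NumLe.conj (g := g) (nontoral p cs hp2 hZ ?_ hw h4 h5)
    have : g * t * g⁻¹ * (g * t * g⁻¹) = g * (t * t) * g⁻¹ := by group
    rw [this, htt, mul_one, mul_inv_cancel]
  have hA : A2 cs isType_E7.isCartan (sr 0) (sr 2) := hs.a2 r0 r2 (cpr_of isType_E7 hs _ r2 k3)
  rcases cn_or_inv isType_E7 p cs hrp htt r0 (by rw [hw, k4]) with h4 | h4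
  · exact hconj (v := 1) rp_one (fun x => by rw [map_one, Module.End.one_apply, Module.End.one_apply]) r0
      (by rw [map_one, Module.End.one_apply]) h4
  rcases cn_or_inv isType_E7 p cs hrp htt r2 (by rw [hw, k5]) with h5 | h5
  · refine hconj ((rp_simple cs R.nsys 2).mul (rp_simple cs R.nsys 0)) (fun x => ?_) r2 ?_ h5
    · rw [rep_mul_apply, rep_mul_apply, th7_comm cs 0 (Or.inl rfl), th7_comm cs 2 (Or.inr rfl)]
    · rw [← k1, ← rep_word cs isType_E7.isCartan, wordProd_cons, wordProd_cons, wordProd_nil, mul_one]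
  · refine hconj (rp_simple cs R.nsys 2) (fun x => th7_comm cs 2 (Or.inr rfl) x) hA.rxy ?_ (cn_add_of_inv R hA h4 h5)
    have h6 := rep_word cs isType_E7.isCartan [2] (sr 0 + sr 2)
    rw [wordProd_cons, wordProd_nil, mul_one] at h6
    exact h6.trans k2

end Nontoral

variable (K : Type) [Field K] [Fintype K]

/-- **`E₇(q)`, `q` odd** -/
theorem numLe_E7 (ho : Odd (Fintype.card K)) {t : ↥(chevE7.group K)} (htt : t * t = 1) (h1 : t ≠ 1) : NumLe 2 t := by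
  obtain ⟨p, hpp, hpc, hp2⟩ := exists_char K ho
  have : Fact p.Prime := ⟨hpp⟩
  have hp2' : p ≠ 2 := by
    rintro rfl
    exact (by decide : ¬ Odd 2) hp2
  have hS : IsSimpleGroup ↥(Lie.chevE7.group K) ∧ ¬ IsMulCommutative ↥(Lie.chevE7.group K) := S1054.result _ (by simp)
  have hs := hS.1
  have hZ := center_eq_bot hS
  obtain ⟨cs, hcs⟩ : ∃ cs, cs = (CoxeterMatrix.E₇).toCoxeterSystem := ⟨_, rfl⟩
  have hW : Finite (CoxeterMatrix.E₇).Group := finite_W isType_E7 cs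
  have R := rgd (K := K) isType_E7 cs p
  have hG := G1_eq_top (K := K) isType_E7 cs
  have hGG := KFacts.RgdRigid.GG_eq_top (T := TT chevE7 K) hG
  obtain ⟨k, φ, σ, J, g, N⟩ := exists_nf_inner hp2' R hG hZ htt h1
  have hσ : ∀ i, σ i = i := by
    intro i
    exact sym_E7 ⟨σ, σ, N.σσ, N.σσ⟩ (fun i j => FFour.sigma_matrix N.φ_simple i j) i
  have h4 : k⁻¹ * t * k = k⁻¹ * t * k⁻¹⁻¹ := by rw [inv_inv]
  rcases J_E7 N hσ with hJ | hJ
  · have hT : k⁻¹ * t * k ∈ TT chevE7 K := mem_T_of R hGG fun c hc => fix_of_id N.nx hσ hJ hc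
    rw [h4] at hT
    exact numLe_of_conj (fun t ht htt h1 => torus_E7 p hp2 ht htt h1) hT htt h1
  · have hw := wJ_E7 cs N.Jcomm hJ
    have h5 : NumLe 1 (k⁻¹ * t * k) := by
      refine nontoral' p cs hp2 hZ ?_ hw fun c hc => ?_
      · have : k⁻¹ * t * k * (k⁻¹ * t * k) = k⁻¹ * (t * t) * k := by group
        rw [this, htt, mul_one, inv_mul_cancel]
      · have h6 := N.nx.xX_id hσ hc
        exact h6
    rw [h4] at h5
    have h6 := h5.conj
    intro h7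
    exact (h6 h7).trans (by norm_num)

end Cfsg.Agent.H557.LrE7
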