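import Cfsg.Agent.H557.LrNF
import Cfsg.Agent.H557.LrChev
import Cfsg.Agent.UGT.U2.FOne.TwESixMain
import Cfsg.Agent.UGT.U2.FOne.TwESixQs
import Cfsg.Agent.S1070

/-!
helper557: `²E₆(q)`, `q` odd: the centralizer of an involution has at most two components, if all its perfect subgroups
lie in the layer: `numLe_twE6`.
-/

set_option autoImplicit false
set_option linter.unusedSectionVars false
set_option maxHeartbeats 400000

namespace Cfsg.Agent.H557.LrTwE

open CoxeterSystem Cfsg.Agent.ChevalleyStructure.CoxeterGeom Cfsg.Agent.Tits.Roots Cfsg.Agent.Tits.Core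
  Cfsg.Agent.Tits.RootComb Cfsg.Agent.Nodes.Comb Cfsg.Agent.Nodes.Reps Cfsg.Agent.Nodes.BNOf
  Cfsg.Agent.Nodes.RGDTwGen Cfsg.Agent.Nodes.RGDChev Cfsg.Agent.Nodes.RGDFold
  Cfsg.Agent.Nodes.RGDFoldSL Cfsg.Agent.Nodes.RGDTwE6 Cfsg.Agent.Nodes.RGDTwTab Cfsg.Agent.Nodes.RGDTwCoordE6
  Cfsg.Agent.Nodes.RGDTwCoord Cfsg.Agent.Nodes.RGDTwComE6 Cfsg.Agent.Nodes.RGDTwActE6
  Cfsg.Agent.Nodes.RGDLib Cfsg.Agent.Nodes.Bruhat
open Cfsg.Lie Cfsg.Agent.ChevalleyStructure
open Cfsg.Agent.KFacts.TwESix.Comb (bf rts mem_rts bf_rep rho rho_root bf_rho pairing_eq)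
open Cfsg.Agent.UGT.U2.FOne Cfsg.Agent.UGT.U2.FOne.TwESix
open Cfsg.Agent.H557.LrAbs Cfsg.Agent.H557.LrSgn Cfsg.Agent.H557.LrTor Cfsg.Agent.H557.LrOrb Cfsg.Agent.H557.LrIso
  Cfsg.Agent.H557.LrNF
open Cfsg.Agent.H557.LrChev (csz csz_apply csz_eq_zero_iff)
open Cfsg.Agent.GenExc (csv)
open scoped commutatorElement MatrixGroups

/-- the row masks -/
def rm : List ℕ := [2, 5, 8, 4]

theorem okR : OkR A rm := by unfold OkR; decide +kernel

/-- the orbit list -/
def Lo : List (ℕ × ℕ) := [(3, 0), (12, 3), (6, 1), (4, 2), (14, 2), (11, 1), (10, 3), (9, 0), (15, 3), (13, 3), (7, 2),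
  (5, 2), (2, 1)]

theorem okLo : okL 4 rm (2 ^ 2 ^ 4 - 1) 259 Lo = true := by decide +kernel

/-- the coroots with a given character -/
def Sm : List (List (Fin 4)) := [[], [1, 3], [0], [0, 1, 3], [3], [1], [0, 3], [0, 1], [2], [1, 2, 3], [0, 2],
  [0, 1, 2, 3], [2, 3], [1, 2], [0, 2, 3], [0, 1, 2]]

theorem bits_eq_csz {l : ℕ} {A : Fin l → Fin l → ℤ} {S : List (Fin l)} {n : ℕ}
    (h : ∀ k : Fin l, decide (csv A S (sr k) % 2 ≠ 0) = n.testBit k) : bits l n = csz A S := by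
  refine ext_sr fun k => ?_
  rw [bits_sr, csz_apply, cast_zmod2, ← h k]
  simp

theorem tab_Sm : ∀ n < 16, ∀ k : Fin 4, decide (csv A (Sm.getD n []) (sr k) % 2 ≠ 0) = n.testBit k := by
  decide +kernel

theorem exists_Sm {n : ℕ} (hn : n < 16) : ∃ S, bits 4 n = csz A S := ⟨_, bits_eq_csz (tab_Sm n hn)⟩

/-- the seeds of the irreducible class -/
def sdS : Fin 3 → List (Fin 4) := ![[0], [1], [1, 3]]

/-- the roots of the seeds -/
def sdb : Fin 3 → (Fin 4 → ℤ) := ![sr 0, sr 1, rho]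

set_option maxRecDepth 20000 in
theorem tab_cov : ∀ x ∈ rts, x 3 % 2 = 0 → ∃ i : Fin 3, csv A (sdS i) x % 2 ≠ 0 := by decide +kernel

theorem tab_seed : ∀ i : Fin 3, sdb i ∈ rts ∧ bf (sdb i) (sdb i) = 4 ∧ sdb i 3 % 2 = 0 := by decide +kernel

theorem tab_con : csv A (sdS 0) (sdb 1) % 2 ≠ 0 ∧ csv A (sdS 0) (sdb 2) % 2 ≠ 0 := by decide +kernel

theorem seed_mod (i : Fin 3) (z : Fin 4 → ℤ) : bf z (sdb i) % 4 = (2 * csv A (sdS i) z) % 4 := by
  have e : ∀ S : List (Fin 4), csv A S z = (S.map fun i => pairing A i z).sum := fun S => rfl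
  rw [e]
  fin_cases i
  · show bf z (sr 0) % 4 = (2 * ([0].map fun i => pairing A i z).sum) % 4
    simp only [List.map_cons, List.map_nil, List.sum_cons, List.sum_nil, pairing_eq, bf, sr]
    simp
    omega
  · show bf z (sr 1) % 4 = (2 * ([1].map fun i => pairing A i z).sum) % 4
    simp only [List.map_cons, List.map_nil, List.sum_cons, List.sum_nil, pairing_eq, bf, sr]
    simp
    omega
  · show bf z rho % 4 = (2 * ([1, 3].map fun i => pairing A i z).sum) % 4
    rw [bf_rho]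
    simp only [List.map_cons, List.map_nil, List.sum_cons, List.sum_nil, pairing_eq]
    simp
    omega

section

variable {K : Type} [Field K] [Fintype K] {q : ℕ} {φ : K →+* K} (hφ : ∀ x, φ x = x ^ q)
  (hqq : ∀ t : K, (t ^ q) ^ q = t) {W : Type*} [Group W] {cs : CoxeterSystem CoxeterMatrix.F₄ W}
  (p : ℕ) [Fact p.Prime] [CharP K p]

theorem sgn_of_inv {b : Fin 4 → ℤ} {ζ : ↥(twistedE6 K q)} (H : Inv cs φ q b ζ) {S : List (Fin 4)}
    (hS : ∀ z, bf z b % 4 = (2 * csv A S z) % 4) : SgnEl cs isCartan (T K q) (X φ q) (csz A S) ζ := by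
  have key : ∀ z, csz A S z = 0 ↔ bf z b % 4 = 0 := by
    intro z
    rw [csz_eq_zero_iff, Int.even_iff]
    have h := hS z
    omega
  refine ⟨H.mem, fun a ha h0 u hu => ?_, fun a ha h0 u hu => ?_⟩
  · exact (H.even a ha ((key a).1 h0) u hu).symm
  · have h1 := H.inv' a ha (fun h => h0 ((key a).2 h)) u hu
    rw [H.inv_eq]
    exact h1

include hφ hqq in
/-- the long roots -/
theorem exists_rt (h2K : (2 : K) ≠ 0) (i : Fin 3) : ∃ ζ : ↥(twistedE6 K q),
    Rt cs isCartan p (T K q) (X φ q) (sdb i) ζ (csz A (sdS i)) ∧ Inv cs φ q (sdb i) ζ := by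
  obtain ⟨h1, h2, -⟩ := tab_seed i
  have hr : IsRoot cs isCartan (sdb i) := (mem_rts cs).2 h1
  obtain ⟨Q, -, hQ, H⟩ := exists_Q (cs := cs) hφ hqq p h2K hr h2
  refine ⟨Q (-1), ⟨hr, ?_, sgn_of_inv H (seed_mod i)⟩, H⟩
  exact ⟨Fq φ, inferInstance, Fintype.ofFinite _, inferInstance, Q, hQ, rfl⟩

include hφ hqq in
/-- the simple coroot elements -/
theorem sgn_zn (j : Fin 4) : SgnEl cs isCartan (T K q) (X φ q) (csz A [j]) (zn hφ hqq j) := by
  have key : ∀ z, csz A [j] z = 0 ↔ pairing A j z % 2 = 0 := by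
    intro z
    rw [csz_eq_zero_iff, Int.even_iff]
    have e : csv A [j] z = pairing A j z := by
      show (([j] : List (Fin 4)).map fun i => pairing A i z).sum = _
      simp
    rw [e]
  refine ⟨zn_mem hφ hqq j, fun a ha h0 u hu => ?_, fun a ha h0 u hu => ?_⟩
  · obtain ⟨b, hb, rfl⟩ := (mem_X hφ hqq ha _).1 hu
    have h1 := conj_zn hφ hqq ha j hb
    rw [neg_one_zpow_even ((key a).1 h0), one_mul] at h1
    exact mul_inv_eq_iff_eq_mul.1 h1
  · obtain ⟨b, hb, rfl⟩ := (mem_X hφ hqq ha _).1 hu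
    have h1 := conj_zn hφ hqq ha j hb
    rw [neg_one_zpow_odd (fun h => h0 ((key a).2 h))] at h1
    rw [h1]
    have ok : Ok chevE6 J O φ a (-1 * b) := by
      have := Ok.mul (ok_neg_one_zpow (K := K) (φ := φ) a 1) hb
      rwa [zpow_one] at this
    rw [eq_inv_iff_mul_eq_one, ← x_add hφ hqq ha ok hb]
    have : -1 * b + b = 0 := by ring
    rw [this]
    exact x_zero hφ hqq ha

include hφ hqq in
/-- products of simple coroot elements -/
theorem exists_zS (S : List (Fin 4)) : ∃ z : ↥(twistedE6 K q), SgnEl cs isCartan (T K q) (X φ q) (csz A S) z := by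
  induction S with
  | nil =>
    refine ⟨1, ?_⟩
    have : csz A ([] : List (Fin 4)) = 0 := by
      refine AddMonoidHom.ext fun x => ?_
      rw [csz_apply]
      rfl
    rw [this]
    exact SgnEl.one
  | cons j S ih =>
    obtain ⟨z, hz⟩ := ih
    refine ⟨zn hφ hqq j * z, ?_⟩
    have : csz A (j :: S) = csz A [j] + csz A S := by
      refine AddMonoidHom.ext fun x => ?_
      rw [AddMonoidHom.add_apply, csz_apply, csz_apply, csz_apply, ← Int.cast_add]
      congr 1
      show ((j :: S).map fun i => pairing A i x).sum = (([j] : List (Fin 4)).map fun i => pairing A i x).sum +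
        (S.map fun i => pairing A i x).sum
      simp
    rw [this]
    exact LrNF.SgnEl.mul (sgn_zn hφ hqq j) hz

include hφ hqq p in
/-- the elements of the torus with `t² = 1` are sign elements -/
theorem exists_sgn6 (h2K : (2 : K) ≠ 0) (hZ : Subgroup.center ↥(twistedE6 K q) = ⊥) {t : ↥(twistedE6 K q)}
    (ht : t ∈ T K q) (htt : t * t = 1) : ∃ n < 16, SgnEl cs isCartan (T K q) (X φ q) (bits 4 n) t := by
  classical
  have hW : Finite W := Cfsg.Agent.KFacts.TwESix.Comb.finiteW cs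
  have hact : ∀ k : Fin 4, ∃ ε : K, (ε = 1 ∨ ε = -1) ∧ ∀ a, Ok chevE6 J O φ (sr k) a →
      t * x φ q (sr k) a * t⁻¹ = x φ q (sr k) (ε * a) := by
    intro k
    have hk := isRoot_sr cs isCartan k
    obtain ⟨χ, h0, h1, h2⟩ := conj_T hφ hqq hk ht
    refine ⟨χ, ?_, h2⟩
    have h3 := h2 1 (ok_one _)
    have h4 : t * (t * x φ q (sr k) 1 * t⁻¹) * t⁻¹ = x φ q (sr k) 1 := by
      have : t * (t * x φ q (sr k) 1 * t⁻¹) * t⁻¹ = (t * t) * x φ q (sr k) 1 * (t * t)⁻¹ := by group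
      rw [this, htt, one_mul, inv_one, mul_one]
    rw [h3, mul_one, h2 χ h1] at h4
    have h5 := x_inj hφ hqq hk (Ok.mul h1 h1) (ok_one _) h4
    exact mul_self_eq_one_iff.1 h5
  choose ε hε hact using hact
  have hneg : (-1 : K) ≠ 1 := by
    intro h
    apply h2K
    linear_combination -h
  obtain ⟨n, hn⟩ : ∃ n, n = Nat.ofBits fun k : Fin 4 => decide (ε k = -1) := ⟨_, rfl⟩
  have hn16 : n < 16 := by rw [hn]; exact Nat.ofBits_lt_two_pow _
  have hbit : ∀ k : Fin 4, n.testBit k = decide (ε k = -1) := by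
    intro k
    rw [hn, Nat.testBit_ofBits_lt _ _ k.2]
  obtain ⟨S, hS⟩ := exists_Sm hn16
  obtain ⟨z, hz⟩ := exists_zS (cs := cs) hφ hqq S
  rw [← hS] at hz
  refine ⟨n, hn16, ?_⟩
  have key : t⁻¹ * z = 1 := by
    refine eq_one_of_simple (rgd cs hφ hqq p) (G1_eq_top (cs := cs) hφ hqq) hZ (mul_mem (inv_mem ht) hz.mem) fun k u hu => ?_
    have hk := isRoot_sr cs isCartan k
    obtain ⟨a, ha, rfl⟩ := (mem_X hφ hqq hk _).1 hu
    have h1 : z * x φ q (sr k) a * z⁻¹ = t * x φ q (sr k) a * t⁻¹ := by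
      rw [hact k a ha]
      rcases hε k with h | h
      · have h0 : bits 4 n (sr k) = 0 := by
          rw [bits_sr, hbit, h, decide_eq_false (Ne.symm hneg)]
          simp
        rw [hz.fix _ hk h0 _ hu, mul_inv_cancel_right, h, one_mul]
      · have h0 : bits 4 n (sr k) ≠ 0 := by
          rw [bits_sr, hbit, h, decide_eq_true rfl]
          simp
        rw [hz.inv _ hk h0 _ hu, h]
        have ok : Ok chevE6 J O φ (sr k) (-1 * a) := by
          have := Ok.mul (ok_neg_one_zpow (K := K) (φ := φ) (sr k) 1) ha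
          rwa [zpow_one] at this
        rw [inv_eq_iff_mul_eq_one, ← x_add hφ hqq hk ha ok]
        have : a + -1 * a = 0 := by ring
        rw [this]
        exact x_zero hφ hqq hk
    calc t⁻¹ * z * x φ q (sr k) a = t⁻¹ * (z * x φ q (sr k) a * z⁻¹) * z := by group
      _ = x φ q (sr k) a * (t⁻¹ * z) := by rw [h1]; group
  rw [inv_mul_eq_one] at key
  rw [key]
  exact hz

theorem bits_one : bits 4 1 = csz A (sdS 2) := bits_eq_csz (by decide +kernel)

include hφ hqq p in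
/-- **the class of the involution of the highest root** -/
theorem class_rho6 (hp2 : Odd p) (hq3 : 3 ≤ q) (hK : Fintype.card K = q ^ 2)
    (hZ : Subgroup.center ↥(twistedE6 K q) = ⊥) : PB cs isCartan (T K q) (X φ q) 2 1 := by
  have hW : Finite W := Cfsg.Agent.KFacts.TwESix.Comb.finiteW cs
  have h2K := (odd_card (F := K) hp2).2
  have R := rgd cs hφ hqq p
  intro t ht _ _
  obtain ⟨ζ, hrt, H⟩ := exists_rt (cs := cs) hφ hqq p h2K 2
  rw [bits_one] at ht
  obtain rfl := SgnEl.unique (G1_eq_top (cs := cs) hφ hqq) hZ ht hrt.sgn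
  have H' : Inv cs φ q rho t := H
  have hr : rho ∈ [sr 0, rho] := by simp
  have hrr := rho_root cs
  have h0 : ∀ z, bf z rho = 0 ↔ z 0 = 0 := fun z => by rw [bf_rho]; omega
  have hev : ∀ z, IsRoot cs isCartan z → bf z rho % 4 = 0 → X φ q z ≤ Subgroup.centralizer {t} := by
    intro z hz h u hu
    rw [Subgroup.mem_centralizer_singleton_iff]
    exact H'.even z hz h u hu
  have hII : II cs φ q ≤ Subgroup.centralizer {t} := by
    refine RGD.Sup_le ?_
    rintro z ⟨hz, hz0⟩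
    exact hev z hz (by rw [(h0 z).2 hz0]; rfl)
  have htab := (tab_long rho hr).2
  refine card_le_two R hp2 (GG_top φ hφ hqq) (fun s hs t ht => comm_T hs ht) ht hII (cent_le_II hφ hqq p H')
    (isQuasisimple_II hφ hqq p hq3 hK) (A1 := AA (X φ q) rho) ?_ (cent_le_RA hφ hqq p hr hrr H') ?_ ?_
    (hrt.sl.solv_or_qs hp2 ?_)
  · refine sup_le (hev _ hrr (by decide +kernel)) (hev _ hrr.neg (by decide +kernel))
  · have hle : II cs φ q ≤ Subgroup.centralizer (AA (X φ q) rho : Set ↥(twistedE6 K q)) := by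
      refine RGD.Sup_le ?_
      rintro z ⟨hz, hz0⟩ u hu
      obtain ⟨h1, h2, h3, h4⟩ := (htab z ((mem_rts cs).1 hz)).2 ((h0 z).2 hz0)
      have h5 : AA (X φ q) rho ≤ Subgroup.centralizer ({u} : Set ↥(twistedE6 K q)) := by
        refine sup_le ?_ ?_
        · intro v hv
          rw [Subgroup.mem_centralizer_singleton_iff]
          exact (commute_X hφ hqq hz hrr h1 (fun h => h4 (by rw [h, neg_neg])) _ hu _ hv).symm
        · intro v hv
          rw [Subgroup.mem_centralizer_singleton_iff]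
          exact (commute_X hφ hqq hz hrr.neg (by rw [← sub_eq_add_neg]; exact h2)
            (fun h => h3 (neg_injective h).symm) _ hu _ hv).symm
      rw [Subgroup.mem_centralizer_iff]
      intro v hv
      exact Subgroup.mem_centralizer_singleton_iff.1 (h5 hv)
    intro x hx y hy
    exact (Subgroup.mem_centralizer_iff.1 (hle hx) y hy).symm
  · refine RGD.Sup_le ?_
    rintro z ⟨hz, hz0⟩
    have h1 : bf z rho % 4 = 0 := by
      have h2 := seed_mod 2 z
      rw [csz_eq_zero_iff, Int.even_iff] at hz0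
      have h3 : bf z (sdb 2) = bf z rho := rfl
      omega
    rcases (htab z ((mem_rts cs).1 hz)).1 h1 with rfl | rfl | h2
    · exact le_trans (le_sup_left : X φ q rho ≤ AA (X φ q) rho) le_sup_right
    · exact le_trans (le_sup_right : X φ q (-rho) ≤ AA (X φ q) rho) le_sup_right
    · exact le_trans (X_le_II hz ((h0 z).1 h2)) le_sup_left
  · intro hbot
    apply X_ne_bot R hrr
    rw [eq_bot_iff, ← hbot]
    exact (le_sup_left : X φ q rho ≤ AA (X φ q) rho)

include hφ hqq p in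
/-- **the irreducible class** -/
theorem class_irr6 (hp2 : Odd p) : PB cs isCartan (T K q) (X φ q) 1 8 := by
  have hW : Finite W := Cfsg.Agent.KFacts.TwESix.Comb.finiteW cs
  have h2K := (odd_card (F := K) hp2).2
  have R := rgd cs hφ hqq p
  intro t ht _ hPL
  have hb8 : ∀ c : Fin 4 → ℤ, bits 4 8 c = 0 ↔ c 3 % 2 = 0 := by
    intro c
    have h1 : bits 4 8 c = ((c 3 : ℤ) : ZMod 2) := by
      show (∑ j : Fin 4, if (8 : ℕ).testBit j then ((c j : ℤ) : ZMod 2) else 0) = _
      rw [Fin.sum_univ_four]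
      have e0 : (8 : ℕ).testBit ((0 : Fin 4) : ℕ) = false := by decide
      have e1 : (8 : ℕ).testBit ((1 : Fin 4) : ℕ) = false := by decide
      have e2 : (8 : ℕ).testBit ((2 : Fin 4) : ℕ) = false := by decide
      have e3 : (8 : ℕ).testBit ((3 : Fin 4) : ℕ) = true := by decide
      rw [e0, e1, e2, e3]
      simp
    rw [h1, ZMod.intCast_zmod_eq_zero_iff_dvd]
    omega
  have hodd : ∀ (S : List (Fin 4)) (c : Fin 4 → ℤ), csv A S c % 2 ≠ 0 → csz A S c ≠ 0 := by
    intro S c h h0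
    rw [csz_eq_zero_iff, Int.even_iff] at h0
    exact h h0
  have hrt := fun i => exists_rt (cs := cs) hφ hqq p h2K i
  choose z hz hI using hrt
  refine card_le_one R hp2 (GG_top φ hφ hqq) (fun s hs t ht => comm_T hs ht) ht hPL
    (b := sdb) (z := z) (ψ := fun i => csz A (sdS i)) (i0 := 0) ?_ ?_ ?_ ?_ ?_ ?_
  · intro i
    exact ⟨(hz i).root, (hb8 _).2 (tab_seed i).2.2⟩
  · exact fun i => (hz i).sgn
  · exact fun i => (hz i).sl.mem
  · exact (hz 0).sl.beta hp2 (cent_le_RA hφ hqq p (r := sr 0) (by simp) (isRoot_sr cs isCartan 0) (hI 0))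
  · intro c hc h0
    obtain ⟨i, hi⟩ := tab_cov c ((mem_rts cs).1 hc) ((hb8 c).1 h0)
    exact ⟨i, hodd _ _ hi⟩
  · intro i
    fin_cases i
    · exact Relation.ReflTransGen.refl
    · exact Relation.ReflTransGen.single (hodd _ _ tab_con.1)
    · exact Relation.ReflTransGen.single (hodd _ _ tab_con.2)

include hφ hqq p in
theorem torus6 (hp2 : Odd p) (hq3 : 3 ≤ q) (hK : Fintype.card K = q ^ 2)
    (hZ : Subgroup.center ↥(twistedE6 K q) = ⊥) (cs : CoxeterSystem CoxeterMatrix.F₄ W) {t : ↥(twistedE6 K q)}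
    (ht : t ∈ T K q) (htt : t * t = 1) (h1 : t ≠ 1) : NumLe 2 t := by
  have h2K := (odd_card (F := K) hp2).2
  have R := rgd cs hφ hqq p
  obtain ⟨n, hn, hs⟩ := exists_sgn6 (cs := cs) hφ hqq p h2K hZ ht htt
  have hP : PB cs isCartan (T K q) (X φ q) 2 n := by
    refine orbit_all (l := 4) (rm := rm) (fun j n => PB.step R okR j n) okLo (fun m hm => ?_) hn
    have hc : ∀ m : ℕ, (259 : ℕ).testBit m = true → m = 0 ∨ m = 1 ∨ m = 8 := by
      intro m hm
      by_cases h : m < 9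
      · revert hm
        revert m
        decide +kernel
      · exfalso
        rw [Nat.testBit_lt_two_pow (lt_of_lt_of_le (by norm_num : (259 : ℕ) < 2 ^ 9)
          (Nat.pow_le_pow_right (by norm_num) (not_lt.1 h)))] at hm
        exact absurd hm (by decide)
    rcases hc m hm with rfl | rfl | rfl
    · exact PB.zero (G1_eq_top (cs := cs) hφ hqq) hZ
    · exact class_rho6 hφ hqq p hp2 hq3 hK hZ
    · exact PB.mono (by norm_num) (class_irr6 hφ hqq p hp2)
  exact hP t hs h1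

end

/-- **`²E₆(q)`, `q` odd.** -/
theorem numLe_twE6 (K : Type) [Field K] [Fintype K] (q : ℕ) (hqp : IsPrimePow q) (ho : Odd q)
    (hK : Fintype.card K = q ^ 2) {t : ↥(Lie.twistedE6 K q)} (htt : t * t = 1) (ht1 : t ≠ 1) : NumLe 2 t := by
  obtain ⟨p, hp⟩ := CharP.exists K
  have hprime : p.Prime := CharP.char_prime_of_ne_zero K (CharP.char_ne_zero_of_finite K p)
  have : Fact p.Prime := ⟨hprime⟩
  obtain ⟨φ, hφ, hqq⟩ := ChevalleyStructure.TwE6Basic.exists_frob hqp hK
  have hF : Odd (Fintype.card K) := by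
    rw [hK]
    exact ho.pow
  have hp2 : p ≠ 2 := by
    rintro rfl
    obtain ⟨n, -, hn⟩ := FiniteField.card K 2
    rw [hn] at hF
    exact absurd hF (Nat.not_odd_iff_even.2 (even_two.pow_of_ne_zero n.ne_zero))
  have hpo : Odd p := hprime.odd_of_ne_two hp2
  have hq2 : 2 ≤ q := hqp.two_le
  have hq3 : 3 ≤ q := by
    rcases ho with ⟨k, hk⟩
    omega
  have hS := Cfsg.Agent.S1070.result hqp hK
  have hs : IsSimpleGroup ↥(Lie.twistedE6 K q) := hS.1
  have hZ : Subgroup.center ↥(Lie.twistedE6 K q) = ⊥ := by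
    rcases (inferInstance : (Subgroup.center ↥(Lie.twistedE6 K q)).Normal).eq_bot_or_eq_top with h1 | h1
    · exact h1
    · exfalso
      apply hS.2
      exact ⟨⟨fun a b => by
        have h2 : a ∈ Subgroup.center ↥(Lie.twistedE6 K q) := by rw [h1]; exact Subgroup.mem_top a
        exact (Subgroup.mem_center_iff.1 h2 b).symm⟩⟩
  obtain ⟨cs, -⟩ : ∃ cs, cs = CoxeterMatrix.F₄.toCoxeterSystem := ⟨_, rfl⟩
  have hW : Finite CoxeterMatrix.F₄.Group := Cfsg.Agent.KFacts.TwESix.Comb.finiteW cs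
  obtain ⟨k, φ', σ, J, g, N⟩ := exists_nf_inner hp2 (rgd cs hφ hqq p) (G1_eq_top (cs := cs) hφ hqq) hZ htt ht1
  have hJ := J_empty hφ hqq p hq2 hK N
  have hσ := sigma_id hφ hqq p hq2 hK N
  have hw : wJ cs (∅ : Set (Fin 4)) = 1 := by
    have F : Cfsg.Agent.Tits.OppRes.Cox cs := inferInstance
    have h := F.wJ_mem (∅ : Set (Fin 4))
    unfold WJ at h
    rwa [Set.image_empty, Subgroup.closure_empty, Subgroup.mem_bot] at h
  have hT : k⁻¹ * t * k ∈ T K q := by
    refine mem_T_of (rgd cs hφ hqq p) (GG_top φ hφ hqq) fun c hc => ?_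
    have h1 := N.nx.xX_id hσ hc
    rw [hJ, hw, map_one, Module.End.one_apply] at h1
    exact h1
  have h3 := torus6 hφ hqq p hpo hq3 hK hZ cs hT (by
    have : k⁻¹ * t * k * (k⁻¹ * t * k) = k⁻¹ * (t * t) * k := by group
    rw [this, htt, mul_one, inv_mul_cancel]) (by
    intro h
    apply ht1
    have : t = k * (k⁻¹ * t * k) * k⁻¹ := by group
    rw [this, h, mul_one, mul_inv_cancel])
  have h4 : k⁻¹ * t * k = k⁻¹ * t * k⁻¹⁻¹ := by rw [inv_inv]
  rw [h4] at h3
  exact h3.conj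

end Cfsg.Agent.H557.LrTwE
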