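import Cfsg.Agent.H557.WAct
import Cfsg.Agent.OddHalf.NI.ModelChev

/-!
helper557: the order of the centralizer of a torus element of a finite Chevalley group `D.group K`.

* `card_X_cent` : `|C_{X x}(t)|` is `q` or `1`;
* `card_cent` : `|C(t)| = q ^ N * |T| * ∑_{w ∈ C_W(t)} q ^ n(w)`, `N` the number of positive roots `x` with `x(t) = 1`,
  `n(w)` the number of those made negative by `w`.
-/

set_option autoImplicit false
set_option linter.unusedSectionVars false

namespace Cfsg.Agent.H557.CentChev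

open CoxeterSystem Cfsg.Agent.ChevalleyStructure.CoxeterGeom Cfsg.Agent.Tits.Roots Cfsg.Agent.Tits.Core
  Cfsg.Agent.Tits.RootComb Cfsg.Agent.Nodes.Comb Cfsg.Agent.Nodes.Reps Cfsg.Agent.Nodes.BNOf
  Cfsg.Agent.Nodes.BNOf.RGD Cfsg.Agent.Nodes.Unique Cfsg.Agent.Nodes.NormalForm
  Cfsg.Agent.Nodes.Bruhat Cfsg.Agent.H557.CardCent Cfsg.Agent.H557.WAct
open Cfsg.Lie Cfsg.Agent.ChevalleyStructure Cfsg.Agent.ChevalleyStructure.Elts
  Cfsg.Agent.ChevalleyStructure.CoxeterGeomTypes Cfsg.Agent.Nodes.RGDChev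
  Cfsg.Agent.KFacts.RgdField Cfsg.Agent.KFacts.RgdChevCoord Cfsg.Agent.OddHalf.NI.ModelChev

universe u

section

variable {D : ChevalleyDatum} {l : ℕ} {M : CoxeterMatrix (Fin l)} (hp : IsType D l M) {K : Type u} [Field K]
  [Finite K] (p : ℕ) [Fact p.Prime] [CharP K p] {W : Type*} [Group W] (cs : CoxeterSystem M W)

theorem finite_group (D : ChevalleyDatum) (K : Type u) [Field K] [Finite K] : Finite ↥(D.group K) := inferInstance

include hp cs in
theorem GG_eq_top : GG cs hp.isCartan (TT D K) (XX D l K) = ⊤ := by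
  have h1 : RGD.Sup (XX D l K) {x | IsRoot cs hp.isCartan x} = ⊤ := G1_eq_top hp cs (K := K)
  unfold GG
  rw [h1, sup_top_eq]

include hp in
theorem comm_mem_TT : ∀ a ∈ TT D K, ∀ b ∈ TT D K, a * b = b * a := fun a ha b hb =>
  congrArg Subtype.val (comm_TT hp (K := K) ⟨a, ha⟩ ⟨b, hb⟩)

include p in
open Classical in
theorem card_X_cent {t : ↥(D.group K)} (ht : t ∈ TT D K) {x : Fin l → ℤ} (hx : IsRoot cs hp.isCartan x) :
    Nat.card ↥(XX D l K x ⊓ Subgroup.centralizer {t}) = if ch hp x t = 1 then Nat.card K else 1 := by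
  have C := (coords (K := K) hp cs p).coord x hx
  have hcomm : ∀ a : K, xc hp x a ∈ Subgroup.centralizer {t} ↔ ch hp x t * a = a := by
    intro a
    rw [Subgroup.mem_centralizer_iff]
    have h1 := C.act t ht a
    constructor
    · intro h
      have h2 := h t rfl
      rw [← mul_inv_eq_iff_eq_mul, h1] at h2
      exact C.inj h2
    · intro h z hz
      rw [Set.mem_singleton_iff] at hz
      subst hz
      rw [h] at h1
      exact mul_inv_eq_iff_eq_mul.1 h1
  split_ifs with h
  · symm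
    refine Nat.card_congr (Equiv.ofBijective (fun a : K => (⟨xc hp x a, Subgroup.mem_inf.2 ⟨(C.mem _).2 ⟨a, rfl⟩,
      (hcomm a).2 (by rw [h, one_mul])⟩⟩ : ↥(XX D l K x ⊓ Subgroup.centralizer {t}))) ⟨?_, ?_⟩)
    · intro a b e
      exact C.inj (congrArg Subtype.val e)
    · rintro ⟨g, hg⟩
      obtain ⟨a, rfl⟩ := (C.mem g).1 (Subgroup.mem_inf.1 hg).1
      exact ⟨a, rfl⟩
  · have h1 : XX D l K x ⊓ Subgroup.centralizer {t} = ⊥ := by
      rw [Subgroup.eq_bot_iff_forall]
      intro g hg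
      obtain ⟨a, rfl⟩ := (C.mem g).1 (Subgroup.mem_inf.1 hg).1
      have h2 := (hcomm a).1 (Subgroup.mem_inf.1 hg).2
      have h3 : (ch hp x t - 1) * a = 0 := by rw [sub_mul, one_mul, h2, sub_self]
      rcases mul_eq_zero.1 h3 with h4 | h4
      · exact absurd (sub_eq_zero.1 h4) h
      · rw [h4]; exact C.zero
    rw [h1, Subgroup.card_bot]

include p in
/-- the order of the centralizer in a join over a closed set of positive roots -/
theorem card_closed [Finite W] {t : ↥(D.group K)} (ht : t ∈ TT D K) {S : Set (Fin l → ℤ)} (hS : S ⊆ Pos cs hp.isCartan)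
    (hc : Closed cs hp.isCartan S) :
    Nat.card ↥(Sup (XX D l K) S ⊓ Subgroup.centralizer {t}) =
      Nat.card K ^ {x | x ∈ S ∧ ch hp x t = 1}.ncard := by
  classical
  have hfin : S.Finite := finite_pos.subset hS
  have h1 := card_sup_cent (rgd (K := K) hp cs p) ht (s := hfin.toFinset) (by rw [hfin.coe_toFinset]; exact hS)
    (by rw [hfin.coe_toFinset]; exact hc)
  rw [hfin.coe_toFinset] at h1
  rw [h1]
  have h2 : ∏ x ∈ hfin.toFinset, Nat.card ↥(XX D l K x ⊓ Subgroup.centralizer {t}) =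
      ∏ x ∈ hfin.toFinset, (if ch hp x t = 1 then Nat.card K else 1) := by
    refine Finset.prod_congr rfl fun x hx => ?_
    rw [Set.Finite.mem_toFinset] at hx
    exact card_X_cent hp p cs ht (hS hx).1
  refine Eq.trans h2 ?_
  rw [← Finset.prod_filter, Finset.prod_const]
  congr 1
  rw [← Set.ncard_coe_finset]
  congr 1
  ext x
  simp [Set.Finite.mem_toFinset]

/-- **the order of the centralizer of an element of the torus** -/
theorem card_cent [Fintype W] (t : TT D K)
    [DecidablePred (· ∈ fixS cs (rgd (K := K) hp cs p).nsys (comm_mem_TT hp) t)] :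
    Nat.card ↥(Subgroup.centralizer {(t : ↥(D.group K))}) =
      Nat.card K ^ {x | x ∈ Pos cs hp.isCartan ∧ ch hp x (t : ↥(D.group K)) = 1}.ncard * Nat.card ↥(TT D K) *
        ∑ w : W with w ∈ fixS cs (rgd (K := K) hp cs p).nsys (comm_mem_TT hp) t,
          Nat.card K ^ {x | x ∈ NW cs hp.isCartan w ∧ ch hp x (t : ↥(D.group K)) = 1}.ncard := by
  have h1 := card_centralizer' (rgd (K := K) hp cs p) (GG_eq_top hp cs) (comm_mem_TT hp) t
  rw [h1, card_closed hp p cs t.2 (fun _ hx => hx) closed_pos]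
  congr 1
  refine Finset.sum_congr rfl fun w _ => ?_
  exact card_closed hp p cs t.2 (NW_subset_pos w) (closed_NW w)

/-- the fixer of `t` preserves the set of roots with value `1` on `t` -/
theorem ch_fix [Finite W] {t : TT D K} {w : W}
    (hw : w ∈ fixS cs (rgd (K := K) hp cs p).nsys (comm_mem_TT hp) t) {x : Fin l → ℤ}
    (hx : IsRoot cs hp.isCartan x) :
    ch hp (rep cs hp.isCartan w x) (t : ↥(D.group K)) = ch hp x (t : ↥(D.group K)) := by
  have h1 := (coords (K := K) hp cs p).chi_rp (rgd (K := K) hp cs p).nsys (rp_nr cs (rgd (K := K) hp cs p).nsys w) hx t.2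
  have h2 := (mem_fixS cs (rgd (K := K) hp cs p).nsys (comm_mem_TT hp)).1 hw
  unfold WAct.act at h2
  rw [h2] at h1
  exact h1

end

end Cfsg.Agent.H557.CentChev
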