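import Cfsg.Agent.H557.SignTorus

/-!
helper557: the conjugacy classes of involutions of a finite Chevalley group of odd characteristic and the orders of
their centralizers, from tables.

* `ClassData` : the tables of one class; `ClassData.card_cent` : the order of the centralizer;
* `two_classes` : **the statement for a group with two classes of involutions**.
-/

set_option autoImplicit false
set_option linter.unusedSectionVars false

namespace Cfsg.Agent.H557.InvClass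

open CoxeterSystem Cfsg.Agent.ChevalleyStructure.CoxeterGeom Cfsg.Agent.Tits.Roots Cfsg.Agent.Tits.Core
  Cfsg.Agent.Tits.RootComb Cfsg.Agent.Nodes.Comb Cfsg.Agent.Nodes.Reps Cfsg.Agent.Nodes.BNOf
  Cfsg.Agent.Nodes.BNOf.RGD Cfsg.Agent.Nodes.Unique Cfsg.Agent.Nodes.NormalForm
  Cfsg.Agent.Nodes.Bruhat Cfsg.Agent.H557.CardCent Cfsg.Agent.H557.WAct Cfsg.Agent.H557.CentChev
open Cfsg.Lie Cfsg.Agent.ChevalleyStructure Cfsg.Agent.ChevalleyStructure.RootVec
  Cfsg.Agent.ChevalleyStructure.CoxeterGeomTypes Cfsg.Agent.Nodes.RGDChev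
  Cfsg.Agent.KFacts.RgdChevCoord Cfsg.Agent.OddHalf.NI.ModelChev Cfsg.Agent.H557.Toral
open Cfsg.Agent.ChevalleyStructure.WeylStep Cfsg.Agent.H557.SubTab Cfsg.Agent.H557.SumHom
  Cfsg.Agent.H557.SubLink Cfsg.Agent.H557.SignTorus

universe u

/-! ### arithmetic -/

theorem qprod {q : ℕ} (hq : 1 ≤ q) (ds : List ℕ) :
    (q - 1) ^ ds.length * pe q (pprod (ds.map fun d => List.replicate d 1)) = (ds.map fun d => q ^ d - 1).prod := by
  rw [pe_prod, List.map_map]
  induction ds with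
  | nil => simp
  | cons d ds ih =>
    rw [List.length_cons, List.map_cons, List.prod_cons, List.map_cons, List.prod_cons, ← ih]
    have h1 : (q - 1) * pe q (List.replicate d 1) = q ^ d - 1 := by
      rw [pe_replicate]
      obtain ⟨n, rfl⟩ : ∃ n, q = n + 1 := ⟨q - 1, by omega⟩
      have h2 := geom_sum_mul_add n d
      rw [Nat.add_sub_cancel, mul_comm]
      exact (Nat.sub_eq_of_eq_add h2.symm).symm
    rw [pow_succ, ← h1]
    simp only [Function.comp_apply]
    ring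

theorem cop {q : ℕ} (hq : 1 ≤ q) (ds : List ℕ) (hds : ∀ d ∈ ds, 0 < d) :
    Nat.Coprime q (ds.map fun d => q ^ d - 1).prod := by
  refine Nat.coprime_list_prod_right_iff.2 fun a ha => ?_
  obtain ⟨d, hd, rfl⟩ := List.mem_map.1 ha
  have h1 : 1 ≤ q ^ d := Nat.one_le_pow _ _ hq
  have h2 : q ^ d - 1 + 1 = q ^ d := Nat.sub_add_cancel h1
  have h3 : Nat.Coprime (q ^ d) (q ^ d - 1) := by
    generalize q ^ d - 1 = a at h2
    rw [← h2]
    simp
  exact Nat.Coprime.coprime_dvd_left (dvd_pow_self q (hds d hd).ne') h3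

theorem pow_ne {q : ℕ} (hq : 2 ≤ q) {m₁ m₂ a₁ a₂ : ℕ} (h₁ : Nat.Coprime q a₁)
    (hm : m₁ < m₂) : q ^ m₁ * a₁ ≠ q ^ m₂ * a₂ := by
  intro h
  obtain ⟨k, rfl⟩ : ∃ k, m₂ = m₁ + (k + 1) := ⟨m₂ - m₁ - 1, by omega⟩
  rw [pow_add, mul_assoc] at h
  have h3 := Nat.eq_of_mul_eq_mul_left (pow_pos (by omega) m₁) h
  have h4 : q ∣ a₁ := by
    rw [h3, pow_succ, mul_comm (q ^ k) q, mul_assoc]
    exact dvd_mul_right _ _
  have h5 := Nat.Coprime.eq_one_of_dvd h₁ h4
  omega

/-! ### the tables of one class -/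

section

variable {D : ChevalleyDatum} {l : ℕ} {M : CoxeterMatrix (Fin l)} (hp : IsType D l M)
  {W : Type*} [Group W] (cs : CoxeterSystem M W)

/-- The tables of one class of involutions. -/
structure ClassData (cm : List ℕ) (T : Tab l) (ds : List ℕ) (n O : ℕ) where
  /-- the coordinate whose parity is the character -/
  i₀ : Fin l
  L : Lnk hp cs T i₀
  ok : T.Ok
  beta : ∃ r < T.N, vf T r i₀ ≠ 0
  /-- the chain -/
  Ls : List (List Node)
  ch : chainOK l [] T.A l Ls = true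
  po : poly Ls = pprod (ds.map fun d => List.replicate d 1)
  len : ds.length = l
  pos : ∀ d ∈ ds, 0 < d
  n_lt : n < 2 ^ l
  n_ne : n ≠ 0
  nO : O.testBit n = true
  /-- the orbit list -/
  Lo : List (ℕ × ℕ)
  okO : okOrb l cm O (2 ^ n) Lo = true
  okC : okCl l cm O = true
  /-- the size of the orbit -/
  c : ℕ
  lc : ((List.range (2 ^ l)).filter fun n => O.testBit n).length = c
  n0 : ∀ j : Fin l, par l (n &&& cm.getD j 0) = decide (j = i₀)
  wd : ∀ i : Fin l, ((T.w i).foldr (fun j m => step l cm j m) n) = n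
  c0 : 0 < c
  cW : pe 1 (poly Ls) * c = Nat.card W

variable {hp cs} {cm : List ℕ} {T : Tab l} {ds : List ℕ} {n O : ℕ} (C : ClassData hp cs cm T ds n O)
  (hcm : OkC (cartanOf D l) cm) {K : Type u} [Field K] [Finite K] (p : ℕ) [Fact p.Prime] [CharP K p]

include C hcm p in
/-- the order of the centralizer -/
theorem ClassData.card_cent [Finite W] (h2 : (2 : K) ≠ 0) (hth : ∀ t : Fin l → Kˣ, th hp t = 1 → t = 1)
    (hT : Nat.card ↥(TT D K) = (Nat.card K - 1) ^ l) :
    Nat.card ↥(Subgroup.centralizer {th hp (sg K l n)}) =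
      Nat.card K ^ T.m * (ds.map fun d => Nat.card K ^ d - 1).prod := by
  have hfin : Fintype W := Fintype.ofFinite W
  have h1 := card_cent_eq C.L (K := K) p C.ok C.beta (thT hp (sg K l n))
    (fun x hx => ch_sg hp cs hcm hx h2 C.n0) (fun i => ?_) C.Ls C.ch ?_
  · have h3 : Nat.card ↥(Subgroup.centralizer {th hp (sg K l n)}) =
        Nat.card K ^ T.m * Nat.card ↥(TT D K) * pe (Nat.card K) (poly C.Ls) := h1
    rw [h3, hT, C.po, mul_assoc, ← qprod (Nat.card_pos (α := K)), C.len]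
  · show actHom cs (rgd (K := K) hp cs p).nsys (comm_mem_TT hp) (cs.wordProd (T.w i)) (thT hp (sg K l n)) =
      thT hp (sg K l n)
    rw [act_word hp cs hcm p, C.wd i]
  · have h3 := card_orbit hp cs hcm p h2 hth C.n_lt C.nO C.okO C.okC C.lc
    rw [← C.cW] at h3
    exact Nat.eq_of_mul_eq_mul_right C.c0 h3

include C hcm p in
/-- elements of the orbit are conjugate -/
theorem ClassData.conj {m : ℕ} (hm : O.testBit m = true) : IsConj (th hp (sg K l m)) (th hp (sg K l n)) := by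
  obtain ⟨w, hw⟩ := reach hp cs hcm p (K := K) C.okO (rep := n) (fun k hk => by
    rw [Nat.testBit_two_pow, decide_eq_true_eq] at hk
    subst hk
    exact ⟨1, by rw [map_one]; rfl⟩) m hm
  have h1 := congrArg Subtype.val hw
  rw [coe_actHom] at h1
  exact isConj_iff.2 ⟨_, h1⟩

omit [Finite K] in
theorem ne_one (h2 : (2 : K) ≠ 0) (hth : ∀ t : Fin l → Kˣ, th hp t = 1 → t = 1) {m : ℕ} (hm : m < 2 ^ l)
    (hm0 : m ≠ 0) : th hp (sg K l m) ≠ 1 := fun h => by
  have h1 := hth _ h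
  rw [← sg_zero] at h1
  exact hm0 (sg_inj h2 hm (Nat.two_pow_pos l) h1)

omit [Finite K] in
theorem order_sg (h2 : (2 : K) ≠ 0) (hth : ∀ t : Fin l → Kˣ, th hp t = 1 → t = 1) {m : ℕ} (hm : m < 2 ^ l)
    (hm0 : m ≠ 0) : orderOf (th hp (sg K l m)) = 2 := by
  refine orderOf_eq_prime ?_ (ne_one h2 hth hm hm0)
  rw [pow_two, ← map_mul, sg_mul_self, map_one]

theorem card_centralizer_conj {G : Type*} [Group G] {a b : G} (h : IsConj a b) :
    Nat.card ↥(Subgroup.centralizer {a}) = Nat.card ↥(Subgroup.centralizer {b}) := by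
  obtain ⟨g, rfl⟩ := isConj_iff.1 h
  refine Nat.card_congr ((MulAut.conj g).toEquiv.subtypeEquiv fun x => ?_)
  rw [Subgroup.mem_centralizer_singleton_iff, Subgroup.mem_centralizer_singleton_iff]
  show _ ↔ g * x * g⁻¹ * (g * a * g⁻¹) = g * a * g⁻¹ * (g * x * g⁻¹)
  rw [show g * x * g⁻¹ * (g * a * g⁻¹) = g * (x * a) * g⁻¹ by group,
    show g * a * g⁻¹ * (g * x * g⁻¹) = g * (a * x) * g⁻¹ by group, mul_left_inj, mul_right_inj]

include hcm p in
/-- **two classes of involutions** -/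
theorem two_classes [Finite W] (h2 : (2 : K) ≠ 0) (hth : ∀ t : Fin l → Kˣ, th hp t = 1 → t = 1)
    (hsurj : ∀ t ∈ TT D K, ∃ b, th hp b = t) (htor : ∀ t : ↥(D.group K), t * t = 1 → ∃ g, g * t * g⁻¹ ∈ TT D K)
    (hT : Nat.card ↥(TT D K) = (Nat.card K - 1) ^ l) {T₁ T₂ : Tab l} {ds₁ ds₂ : List ℕ} {n₁ n₂ O₁ O₂ : ℕ}
    (C₁ : ClassData hp cs cm T₁ ds₁ n₁ O₁) (C₂ : ClassData hp cs cm T₂ ds₂ n₂ O₂)
    (hcov : ∀ n < 2 ^ l, n = 0 ∨ O₁.testBit n = true ∨ O₂.testBit n = true) (hm : T₁.m ≠ T₂.m) :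
    ∃ s t : ↥(D.group K), orderOf s = 2 ∧ orderOf t = 2 ∧ ¬ IsConj s t ∧
      (∀ u : ↥(D.group K), orderOf u = 2 → IsConj u s ∨ IsConj u t) ∧
      Nat.card (Subgroup.centralizer ({s} : Set ↥(D.group K))) =
        Nat.card K ^ T₁.m * (ds₁.map fun d => Nat.card K ^ d - 1).prod ∧
      Nat.card (Subgroup.centralizer ({t} : Set ↥(D.group K))) =
        Nat.card K ^ T₂.m * (ds₂.map fun d => Nat.card K ^ d - 1).prod := by
  have hq : 2 ≤ Nat.card K := Finite.one_lt_card
  have hc₁ := C₁.card_cent hcm (K := K) p h2 hth hT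
  have hc₂ := C₂.card_cent hcm (K := K) p h2 hth hT
  refine ⟨th hp (sg K l n₁), th hp (sg K l n₂), order_sg h2 hth C₁.n_lt C₁.n_ne, order_sg h2 hth C₂.n_lt C₂.n_ne,
    fun hcon => ?_, fun u hu => ?_, hc₁, hc₂⟩
  · have h3 := card_centralizer_conj hcon
    rw [hc₁, hc₂] at h3
    have h4 := cop (by omega) ds₁ C₁.pos (q := Nat.card K)
    have h5 := cop (by omega) ds₂ C₂.pos (q := Nat.card K)
    rcases lt_or_gt_of_ne hm with h6 | h6
    · exact pow_ne hq h4 h6 h3
    · exact pow_ne hq h5 h6 h3.symm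
  · have hu1 : u * u = 1 := by rw [← pow_two, ← hu, pow_orderOf_eq_one]
    have hu2 : u ≠ 1 := by
      rintro rfl
      rw [orderOf_one] at hu
      omega
    obtain ⟨g, hg⟩ := htor u hu1
    obtain ⟨b, hb⟩ := hsurj _ hg
    have hconj : IsConj u (th hp b) := isConj_iff.2 ⟨g, hb.symm⟩
    have hb2 : b * b = 1 := by
      apply hth
      rw [map_mul, hb]
      have : g * u * g⁻¹ * (g * u * g⁻¹) = g * (u * u) * g⁻¹ := by group
      rw [this, hu1, mul_one, mul_inv_cancel]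
    obtain ⟨m, hm', rfl⟩ := exists_sg hb2
    rcases hcov m hm' with h3 | h3 | h3
    · exfalso
      subst h3
      rw [sg_zero, map_one] at hb
      apply hu2
      have h4 : u = g⁻¹ * (g * u * g⁻¹) * g := by group
      rw [h4, ← hb, mul_one, inv_mul_cancel]
    · exact Or.inl (hconj.trans (C₁.conj hcm p h3))
    · exact Or.inr (hconj.trans (C₂.conj hcm p h3))

end

end Cfsg.Agent.H557.InvClass
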