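import Cfsg.Agent.H557.SubTab

/-!
helper557: tables of the subsystem `B4 of F4`.
Generated by a script; checked by the kernel.
-/

set_option autoImplicit false

namespace Cfsg.Agent.H557.TabB4

open Cfsg.Agent.ChevalleyStructure.WeylStep Cfsg.Agent.H557.SubTab Cfsg.Agent.H557.SumHom

/-- indices of the roots -/
def tE : List ℕ := [24, 25, 26, 27, 28, 29, 30, 31, 32, 41, 42, 43, 44, 45, 46, 47, 23, 22, 21, 20, 19, 18, 17, 16,
  15, 6, 5, 4, 3, 2, 1, 0]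

/-- codes of the root vectors -/
def tV : List ℕ := [39048, 35208, 39304, 34968, 35224, 39320, 35240, 39336, 39592, 35242, 39338, 39594, 39610, 39626,
  39882, 43978, 30856, 34696, 30600, 34936, 34680, 30584, 34664, 30568, 30312, 34662, 30566, 30310, 30294, 30278,
  30022, 25926]

/-- reflection 0 -/
def tr0 : List ℕ := [0, 6, 7, 19, 4, 5, 1, 2, 8, 9, 10, 13, 12, 11, 14, 15, 16, 22, 23, 3, 20, 21, 17, 18, 24, 25, 26,
  29, 28, 27, 30, 31]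

/-- reflection 1 -/
def tr1 : List ℕ := [2, 17, 0, 4, 3, 5, 6, 8, 7, 9, 11, 10, 12, 14, 13, 15, 18, 1, 16, 20, 19, 21, 22, 24, 23, 25, 27,
  26, 28, 30, 29, 31]

/-- reflection 2 -/
def tr2 : List ℕ := [16, 2, 1, 3, 5, 4, 7, 6, 8, 10, 9, 11, 12, 13, 15, 14, 0, 18, 17, 19, 21, 20, 23, 22, 24, 26, 25,
  27, 28, 29, 31, 30]

/-- reflection 3 -/
def tr3 : List ℕ := [10, 1, 11, 3, 4, 12, 6, 13, 14, 25, 0, 2, 5, 7, 8, 15, 26, 17, 27, 19, 20, 28, 22, 29, 30, 9, 16,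
  18, 21, 23, 24, 31]

/-- codes of the coroots -/
def tcd : List ℕ := [35208, 34968, 35224, 34953, 34985, 35497, 34969, 35225, 35241, 39048, 39304, 39320, 43689, 39321,
  39337, 39593, 34696, 34936, 34680, 34951, 34919, 34407, 34935, 34679, 34663, 30856, 30600, 30584, 26215, 30583,
  30567, 30311]

/-- the tables -/
def tab : Tab 4 where
  m := 16
  E := tE
  V := tV
  sm := [3, 1, 0, 9]
  rf := [tr0, tr1, tr2, tr3]
  cd := tcd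
  A := [[2, -1, 0, 0], [-2, 2, -1, 0], [0, -1, 2, -1], [0, 0, -1, 2]]
  wd := [[1], [2], [3], [0, 1, 2, 1, 0]]

/-- orbit table, step 3 -/
def ch3 : List Node := [
  ⟨[0, 0, 0, 1], 39048, 0, 0, 0, 0, [0, 0, 0, 1]⟩,
  ⟨[0, 0, 1, -1], 31112, 1, 0, 0, 3, [1, 1, 2, 0]⟩,
  ⟨[0, 1, -1, 0], 34712, 2, 0, 1, 2, [2, 3, 1, 2]⟩,
  ⟨[2, -1, 0, 0], 34938, 3, 0, 2, 1, [4, 2, 3, 3]⟩,
  ⟨[-2, 1, 0, 0], 34966, 4, 0, 3, 0, [3, 5, 4, 4]⟩,
  ⟨[0, -1, 1, 0], 35192, 5, 0, 4, 1, [5, 4, 6, 5]⟩,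
  ⟨[0, 0, -1, 1], 38792, 6, 0, 5, 2, [6, 6, 5, 7]⟩,
  ⟨[0, 0, 0, -1], 30856, 7, 0, 6, 3, [7, 7, 7, 6]⟩]

/-- orbit table, step 2 -/
def ch2 : List Node := [
  ⟨[0, 0, 1, 0], 35208, 0, 0, 0, 0, [0, 0, 1]⟩,
  ⟨[0, 1, -1, 1], 38808, 1, 0, 0, 2, [1, 2, 0]⟩,
  ⟨[2, -1, 0, 1], 39034, 2, 0, 1, 1, [3, 1, 2]⟩,
  ⟨[-2, 1, 0, 1], 39062, 3, 0, 2, 0, [2, 4, 3]⟩,
  ⟨[0, -1, 1, 1], 39288, 4, 0, 3, 1, [4, 3, 5]⟩,
  ⟨[0, 0, -1, 2], 42888, 5, 0, 4, 2, [5, 5, 4]⟩]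

/-- orbit table, step 1 -/
def ch1 : List Node := [
  ⟨[0, 1, 0, 0], 34968, 0, 0, 0, 0, [0, 1]⟩,
  ⟨[2, -1, 1, 0], 35194, 1, 0, 0, 1, [2, 0]⟩,
  ⟨[-2, 1, 1, 0], 35222, 2, 0, 1, 0, [1, 3]⟩,
  ⟨[0, -1, 2, 0], 35448, 3, 0, 2, 1, [3, 2]⟩]

/-- orbit table, step 0 -/
def ch0 : List Node := [
  ⟨[1, 0, 0, 0], 34953, 0, 0, 0, 0, [1]⟩,
  ⟨[-1, 1, 0, 0], 34967, 1, 0, 0, 0, [0]⟩]

/-- the chain -/
def chain : List (List Node) := [ch3, ch2, ch1, ch0]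

theorem okR : tab.okR = true := by decide +kernel

theorem okP : tab.okP = true := by decide +kernel

theorem okS : tab.okS = true := by decide +kernel

theorem okN : tab.okN = true := by decide +kernel

theorem okA : tab.okA = true := by decide +kernel

theorem okI : tab.okI = true := by decide +kernel

theorem ok : tab.Ok := tab.ok_of okR okP okS okN okA okI

theorem chOK : chainOK 4 [] tab.A 4 chain = true := by decide +kernel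

theorem poly_eq : poly chain = pprod ([2, 4, 6, 8].map fun d => List.replicate d 1) := by decide +kernel

theorem pe_one : pe 1 (poly chain) = 384 := by decide +kernel

end Cfsg.Agent.H557.TabB4
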