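import Cfsg.Agent.H557.SubTab

/-!
helper557: tables of the subsystem `C3 + A1 of F4`.
Generated by a script; checked by the kernel.
-/

set_option autoImplicit false

namespace Cfsg.Agent.H557.TabC3A1

open Cfsg.Agent.ChevalleyStructure.WeylStep Cfsg.Agent.H557.SubTab Cfsg.Agent.H557.SumHom

/-- indices of the roots -/
def tE : List ℕ := [25, 27, 28, 30, 33, 34, 35, 37, 41, 47, 22, 20, 19, 17, 14, 13, 12, 10, 6, 0]

/-- codes of the root vectors -/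
def tV : List ℕ := [35208, 34968, 35224, 35240, 34953, 34969, 35225, 35241, 35242, 43978, 34696, 34936, 34680, 34664,
  34951, 34935, 34679, 34663, 34662, 25926]

/-- reflection 0 -/
def tr0 : List ℕ := [10, 2, 1, 3, 4, 6, 5, 7, 8, 9, 0, 12, 11, 13, 14, 16, 15, 17, 18, 19]

/-- reflection 1 -/
def tr1 : List ℕ := [3, 11, 2, 0, 5, 4, 7, 6, 8, 9, 13, 1, 12, 10, 15, 14, 17, 16, 18, 19]

/-- reflection 2 -/
def tr2 : List ℕ := [0, 5, 6, 8, 14, 1, 2, 7, 3, 9, 10, 15, 16, 18, 4, 11, 12, 17, 13, 19]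

/-- reflection 3 -/
def tr3 : List ℕ := [0, 1, 2, 3, 4, 5, 6, 7, 8, 19, 10, 11, 12, 13, 14, 15, 16, 17, 18, 9]

/-- codes of the coroots -/
def tcd : List ℕ := [34953, 34968, 34970, 34969, 35208, 35224, 35226, 35242, 35225, 39048, 34951, 34936, 34934, 34935,
  34696, 34680, 34678, 34662, 34679, 30856]

/-- the tables -/
def tab : Tab 4 where
  m := 10
  E := tE
  V := tV
  sm := [0, 1, 4, 9]
  rf := [tr0, tr1, tr2, tr3]
  cd := tcd
  A := [[2, -2, 0, 0], [-1, 2, -1, 0], [0, -1, 2, 0], [0, 0, 0, 2]]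
  wd := [[2], [1], [0], [3, 2, 1, 0, 2, 1, 2, 3, 2, 1, 2, 0, 1, 2, 3]]

/-- orbit table, step 3 -/
def ch3 : List Node := [
  ⟨[0, 0, 0, 1], 39048, 0, 0, 0, 0, [0, 0, 0, 1]⟩,
  ⟨[0, 0, 0, -1], 30856, 1, 0, 0, 3, [1, 1, 1, 0]⟩]

/-- orbit table, step 2 -/
def ch2 : List Node := [
  ⟨[0, 0, 1, 0], 35208, 0, 0, 0, 0, [0, 0, 1]⟩,
  ⟨[0, 1, -1, 0], 34712, 1, 0, 0, 2, [1, 2, 0]⟩,
  ⟨[1, -1, 0, 0], 34937, 2, 0, 1, 1, [3, 1, 2]⟩,
  ⟨[-1, 1, 0, 0], 34967, 3, 0, 2, 0, [2, 4, 3]⟩,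
  ⟨[0, -1, 1, 0], 35192, 4, 0, 3, 1, [4, 3, 5]⟩,
  ⟨[0, 0, -1, 0], 34696, 5, 0, 4, 2, [5, 5, 4]⟩]

/-- orbit table, step 1 -/
def ch1 : List Node := [
  ⟨[0, 1, 0, 0], 34968, 0, 0, 0, 0, [0, 1]⟩,
  ⟨[1, -1, 1, 0], 35193, 1, 0, 0, 1, [2, 0]⟩,
  ⟨[-1, 1, 1, 0], 35223, 2, 0, 1, 0, [1, 3]⟩,
  ⟨[0, -1, 2, 0], 35448, 3, 0, 2, 1, [3, 2]⟩]

/-- orbit table, step 0 -/
def ch0 : List Node := [
  ⟨[1, 0, 0, 0], 34953, 0, 0, 0, 0, [1]⟩,
  ⟨[-1, 2, 0, 0], 34983, 1, 0, 0, 0, [0]⟩]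

/-- the chain -/
def chain : List (List Node) := [ch3, ch2, ch1, ch0]

theorem okR : tab.okR = true := by decide +kernel

theorem okP : tab.okP = true := by decide +kernel

theorem okS : tab.okS = true := by decide +kernel

theorem okN : tab.okN = true := by decide +kernel

theorem okA : tab.okA = true := by decide +kernel

theorem okI : tab.okI = true := by decide +kernel

theorem ok : tab.Ok := tab.ok_of okR okP okS okN okA okI

theorem chOK : chainOK 4 [] tab.A 4 chain = true := by decide +kernel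

theorem poly_eq : poly chain = pprod ([2, 4, 6, 2].map fun d => List.replicate d 1) := by decide +kernel

theorem pe_one : pe 1 (poly chain) = 96 := by decide +kernel

end Cfsg.Agent.H557.TabC3A1
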