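import Cfsg.Agent.H557.SubLink
import Cfsg.Agent.H557.TabB4
import Cfsg.Agent.H557.TabC3A1

/-!
helper557: the tables of the subsystems of `chevF4` describe subsystems of its root system.
-/

set_option autoImplicit false

namespace Cfsg.Agent.H557.LinkF4

open Cfsg.Lie Cfsg.Agent.ChevalleyStructure Cfsg.Agent.ChevalleyStructure.RootVec  Cfsg.Agent.ChevalleyStructure.CoxeterGeomTypes
  Cfsg.Agent.Nodes.RGDChev Cfsg.Agent.H557.SubTab Cfsg.Agent.H557.SubLink Cfsg.Agent.ChevalleyStructure.CoxeterWordCheck

/-- the Cartan matrix -/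
def rw : List (List ℤ) :=
  [[2, -1, 0, 0], [-1, 2, -2, 0], [0, -1, 2, -1], [0, 0, -1, 2]]

set_option backward.isDefEq.respectTransparency false in
theorem hrw : rows (cartanOf chevF4 4) = rw := by decide +kernel

/-! ### `TabB4` -/

theorem V_TabB4 : okV TabB4.tab rw = true := by decide +kernel

theorem E_TabB4 : okE TabB4.tab chevF4 0 = true := by decide +kernel

theorem F_TabB4 : okF TabB4.tab chevF4 0 = true := by decide +kernel

theorem H_TabB4 : okH TabB4.tab = true := by decide +kernel

theorem Q_TabB4 : okQ TabB4.tab = true := by decide +kernel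

theorem B_TabB4 : ∃ r < TabB4.tab.N, vf TabB4.tab r 0 ≠ 0 := ⟨9, by decide +kernel, by decide +kernel⟩

/-! ### `TabC3A1` -/

theorem V_TabC3A1 : okV TabC3A1.tab rw = true := by decide +kernel

theorem E_TabC3A1 : okE TabC3A1.tab chevF4 3 = true := by decide +kernel

theorem F_TabC3A1 : okF TabC3A1.tab chevF4 3 = true := by decide +kernel

theorem H_TabC3A1 : okH TabC3A1.tab = true := by decide +kernel

theorem Q_TabC3A1 : okQ TabC3A1.tab = true := by decide +kernel

theorem B_TabC3A1 : ∃ r < TabC3A1.tab.N, vf TabC3A1.tab r 3 ≠ 0 := ⟨9, by decide +kernel, by decide +kernel⟩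

end Cfsg.Agent.H557.LinkF4
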