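import Cfsg.Agent.H557.SignTorus
import Cfsg.Agent.H557.LinkF4

/-!
helper557: the orbits of the Weyl group on the involutions of the torus of `chevF4`.
-/

set_option autoImplicit false

namespace Cfsg.Agent.H557.OrbF4

open Cfsg.Lie Cfsg.Agent.ChevalleyStructure Cfsg.Agent.ChevalleyStructure.CoxeterGeomTypes
  Cfsg.Agent.H557.SubTab Cfsg.Agent.H557.SignTorus

/-- column masks of the Cartan matrix modulo `2` -/
def cm : List ℕ := [2, 5, 8, 4]

set_option backward.isDefEq.respectTransparency false in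
theorem hcm : OkC (cartanOf chevF4 4) cm := by unfold OkC; decide +kernel

/-! ### `TabB4` -/

/-- the representative -/
def n_TabB4 : ℕ := 2

/-- the orbit -/
def O_TabB4 : ℕ := 14

/-- the orbit list -/ def L_TabB4 : List (ℕ × ℕ) := [(3, 0), (1, 1)]

theorem nO_TabB4 : (O_TabB4).testBit n_TabB4 = true := by decide +kernel

theorem okO_TabB4 : okOrb 4 cm O_TabB4 (2 ^ n_TabB4) L_TabB4 = true := by decide +kernel

theorem okC_TabB4 : okCl 4 cm O_TabB4 = true := by decide +kernel

theorem len_TabB4 : ((List.range (2 ^ 4)).filter fun n => (O_TabB4).testBit n).length = 3 := by decide +kernel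

theorem n0_TabB4 : ∀ j : Fin 4, par 4 (n_TabB4 &&& cm.getD j 0) = decide (j = 0) := by decide +kernel

theorem wd_TabB4 : ∀ i : Fin 4, ((TabB4.tab.w i).foldr (fun j m => step 4 cm j m) n_TabB4) = n_TabB4 := by decide +kernel

/-! ### `TabC3A1` -/

/-- the representative -/
def n_TabC3A1 : ℕ := 5

/-- the orbit -/
def O_TabC3A1 : ℕ := 65520

/-- the orbit list -/ def L_TabC3A1 : List (ℕ × ℕ) := [(13, 3), (9, 2), (11, 1), (10, 0), (15, 2), (14, 2), (7, 3),
  (12, 1), (6, 3), (8, 2), (4, 3)]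

theorem nO_TabC3A1 : (O_TabC3A1).testBit n_TabC3A1 = true := by decide +kernel

theorem okO_TabC3A1 : okOrb 4 cm O_TabC3A1 (2 ^ n_TabC3A1) L_TabC3A1 = true := by decide +kernel

theorem okC_TabC3A1 : okCl 4 cm O_TabC3A1 = true := by decide +kernel

theorem len_TabC3A1 : ((List.range (2 ^ 4)).filter fun n => (O_TabC3A1).testBit n).length = 12 := by decide +kernel

theorem n0_TabC3A1 : ∀ j : Fin 4, par 4 (n_TabC3A1 &&& cm.getD j 0) = decide (j = 3) := by decide +kernel

theorem wd_TabC3A1 : ∀ i : Fin 4, ((TabC3A1.tab.w i).foldr (fun j m => step 4 cm j m) n_TabC3A1) = n_TabC3A1 := by decide +kernel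

theorem cover : ∀ n < 2 ^ 4, n = 0 ∨ (O_TabB4).testBit n = true ∨ (O_TabC3A1).testBit n = true := by decide +kernel

end Cfsg.Agent.H557.OrbF4
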