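import Cfsg.Agent.H557.InvClass
import Cfsg.Agent.H557.OrbF4
import Cfsg.Agent.S1092

/-!
helper557: the classes of involutions of `chevF4` over finite fields of odd order.
-/

set_option autoImplicit false

namespace Cfsg.Agent.H557.InvF4

open Cfsg.Lie Cfsg.Agent.ChevalleyStructure Cfsg.Agent.ChevalleyStructure.CoxeterGeomTypes
  Cfsg.Agent.Nodes.RGDChev Cfsg.Agent.KFacts.RgdChevCoord Cfsg.Agent.OddHalf.NI.ModelChev
  Cfsg.Agent.H557.SubTab Cfsg.Agent.H557.SubLink Cfsg.Agent.H557.SignTorus Cfsg.Agent.H557.InvClass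
  Cfsg.Agent.H557.ToralTypes Cfsg.Agent.H557.LinkF4 Cfsg.Agent.H557.OrbF4

universe u

/-- the Coxeter system -/
def cs : CoxeterSystem CoxeterMatrix.F₄ (CoxeterMatrix.F₄).Group := CoxeterMatrix.toCoxeterSystem _

theorem cardW : Nat.card (CoxeterMatrix.F₄).Group = 1152 :=
  Cfsg.Agent.S1092.result (⟨4, CoxeterMatrix.F₄⟩, 1152) (by simp)

/-- the class of `TabB4` -/
def D_TabB4 : ClassData Nodes.KindF.isType cs cm TabB4.tab [2, 4, 6, 8] n_TabB4 O_TabB4 where
  i₀ := 0
  L := lnk_of Nodes.KindF.isType cs hrw V_TabB4 E_TabB4 F_TabB4 H_TabB4 Q_TabB4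
  ok := TabB4.ok
  beta := B_TabB4
  Ls := TabB4.chain
  ch := TabB4.chOK
  po := TabB4.poly_eq
  len := rfl
  pos := by simp
  n_lt := by decide +kernel
  n_ne := by decide +kernel
  nO := nO_TabB4
  Lo := L_TabB4
  okO := okO_TabB4
  okC := okC_TabB4
  c := 3
  lc := len_TabB4
  n0 := n0_TabB4
  wd := wd_TabB4
  c0 := by norm_num
  cW := by rw [TabB4.pe_one, cardW]

/-- the class of `TabC3A1` -/
def D_TabC3A1 : ClassData Nodes.KindF.isType cs cm TabC3A1.tab [2, 4, 6, 2] n_TabC3A1 O_TabC3A1 where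
  i₀ := 3
  L := lnk_of Nodes.KindF.isType cs hrw V_TabC3A1 E_TabC3A1 F_TabC3A1 H_TabC3A1 Q_TabC3A1
  ok := TabC3A1.ok
  beta := B_TabC3A1
  Ls := TabC3A1.chain
  ch := TabC3A1.chOK
  po := TabC3A1.poly_eq
  len := rfl
  pos := by simp
  n_lt := by decide +kernel
  n_ne := by decide +kernel
  nO := nO_TabC3A1
  Lo := L_TabC3A1
  okO := okO_TabC3A1
  okC := okC_TabC3A1
  c := 12
  lc := len_TabC3A1
  n0 := n0_TabC3A1
  wd := wd_TabC3A1
  c0 := by norm_num
  cW := by rw [TabC3A1.pe_one, cardW]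

/-- **the classes of involutions** -/
theorem main {K : Type u} [Field K] [Fintype K] (ho : Odd (Fintype.card K)) :
    ∃ s t : ↥(chevF4.group K), orderOf s = 2 ∧ orderOf t = 2 ∧ ¬ IsConj s t ∧
      (∀ u : ↥(chevF4.group K), orderOf u = 2 → IsConj u s ∨ IsConj u t) ∧
      Nat.card (Subgroup.centralizer ({s} : Set ↥(chevF4.group K))) =
        Fintype.card K ^ TabB4.tab.m * (([2, 4, 6, 8] : List ℕ).map fun d => Fintype.card K ^ d - 1).prod ∧
      Nat.card (Subgroup.centralizer ({t} : Set ↥(chevF4.group K))) =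
        Fintype.card K ^ TabC3A1.tab.m * (([2, 4, 6, 2] : List ℕ).map fun d => Fintype.card K ^ d - 1).prod := by
  obtain ⟨p, hpp, hpc, hp2⟩ := exists_char K ho
  have : Fact p.Prime := ⟨hpp⟩
  have h2 : (2 : K) ≠ 0 := by
    intro h
    have h3 : p ∣ 2 := (CharP.cast_eq_zero_iff K p 2).1 (by exact_mod_cast h)
    have h4 := (Nat.prime_dvd_prime_iff_eq hpp Nat.prime_two).1 h3
    rw [h4] at hp2
    exact absurd hp2 (by decide)
  have hW : Finite (CoxeterMatrix.F₄).Group := Nat.finite_of_card_ne_zero (by rw [cardW]; norm_num)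
  have hc1 : Nat.card (chevF4.diagonalSubgroup K) = (Nat.card K - 1) ^ 4 := by
    have := Cfsg.Agent.S1035.result (F := K) rfl (chevF4, 1) (by simp)
    rw [Nat.card_eq_fintype_card (α := K)]
    rwa [one_mul] at this
  have hT : Nat.card ↥(TT chevF4 K) = (Nat.card K - 1) ^ 4 := by
    rw [← hc1]
    exact Nat.card_congr (Subgroup.subgroupOfEquivOfLe
      (Cfsg.Agent.ChevalleyStructure.Elts.diagonal_le_group (Nodes.KindF.isType).inList K)).toEquiv
  rw [← Nat.card_eq_fintype_card]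
  exact two_classes hcm p h2 inj_F4 (fun t ht => surj_F4 ht) (fun t ht => toral_F4 ho ht) hT D_TabB4 D_TabC3A1
    cover (by decide +kernel)

end Cfsg.Agent.H557.InvF4
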