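import Cfsg.Agent.Nodes.NormalForm

/-!
helper557: involutions in a group with root group data of odd characteristic.

* `exists_conj_N` : an involution in the cell of `w` is conjugate to an involution over `w` in the group of
  representatives;
* `root_comm` : the root groups of two orthogonal nodes commute.
-/

set_option autoImplicit false
set_option linter.unusedSectionVars false

namespace Cfsg.Agent.H557.InvForm

open CoxeterSystem Cfsg.Agent.ChevalleyStructure.CoxeterGeom Cfsg.Agent.Tits.Roots Cfsg.Agent.Tits.Core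
  Cfsg.Agent.Tits.Exchange Cfsg.Agent.Nodes.Reps Cfsg.Agent.Nodes.BNOf Cfsg.Agent.Nodes.StabComb
  Cfsg.Agent.Nodes.Bruhat Cfsg.Agent.Nodes.OppDec Cfsg.Agent.Nodes.LeviDec Cfsg.Agent.Nodes.NormalForm
  Cfsg.Agent.Nodes.Comb
open scoped commutatorElement

variable {I W Y : Type*} [Fintype I] [DecidableEq I] [Group W] [Group Y] {M : CoxeterMatrix I}
  {cs : CoxeterSystem M W} {A : I → I → ℤ} {h : IsCartan M A} {p : ℕ} {T : Subgroup Y} {n : I → Y}
  {X : (I → ℤ) → Subgroup Y}

/-- an element of odd order has a square root among its powers -/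
theorem exists_sqrt {G : Type*} [Group G] {a : G} (ha : Odd (orderOf a)) : ∃ m : ℕ, a ^ m * a ^ m = a := by
  obtain ⟨k, hk⟩ := ha
  refine ⟨k + 1, ?_⟩
  rw [← pow_add]
  have : k + 1 + (k + 1) = orderOf a + 1 := by omega
  rw [this, pow_succ, pow_orderOf_eq_one, one_mul]

variable (R : RGD cs h p T n X)

include R

/-- **an involution in the cell of `w` is conjugate to an involution over `w`** (odd characteristic) -/
theorem exists_conj_N [Finite W] (hp2 : Odd p) {w : W} {t : Y} (ht : Cell R.nsys cs h X w t) (h2 : t * t = 1) :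
    ∃ g k, Rp cs R.nsys w k ∧ k * k = 1 ∧ g * t * g⁻¹ = k := by
  have hww : w = w⁻¹ := by
    have h1 := ht.inv
    rw [inv_eq_of_mul_eq_one_left h2] at h1
    exact Cell.unique R ht h1
  obtain ⟨u, hu, k, hk, v, hv, rfl⟩ := exists_normal_form R ht
  have hv' : v ∈ RGD.Sup X (RGD.Pos cs h) :=
    RGD.Sup_mono (S := NW cs h w) (S' := RGD.Pos cs h) (fun x hx => ⟨hx.1, hx.2.1⟩) hv
  obtain ⟨a, ha⟩ : ∃ a, a = v * u := ⟨_, rfl⟩
  have haU : a ∈ RGD.Sup X (RGD.Pos cs h) := by rw [ha]; exact mul_mem hv' hu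
  have e1 : a * k * (a * k) = 1 := by
    have : a * k * (a * k) = v * (u * k * v * (u * k * v)) * v⁻¹ := by rw [ha]; group
    rw [this, h2]; group
  have hkT : k * k ∈ T := by
    have h1 := hk.mul hk
    rw [show w * w = 1 by nth_rewrite 2 [hww]; exact mul_inv_cancel w] at h1
    exact h1.mem_of_one
  obtain ⟨b, hb, c, hc, hbc⟩ := exists_PW_NW R w haU
  have e2 : k * a * k⁻¹ = a⁻¹ * (k * k)⁻¹ := by
    have : k * a * k⁻¹ = a⁻¹ * (a * k * (a * k)) * (k * k)⁻¹ := by group
    rw [this, e1, mul_one]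
  have hkb : k * b * k⁻¹ ∈ RGD.Sup X (RGD.Pos cs h) :=
    conj_mem_Sup R hk (S' := RGD.Pos cs h) (fun x hx => hx.1) (fun x hx => ⟨hx.1.act _, hx.2.2⟩) hb
  have hkc : k * c * k⁻¹ ∈ UN cs h X :=
    conj_mem_Sup R hk (S' := Neg cs h) (fun x hx => hx.1) (fun x hx => ⟨hx.1.act _, hx.2.2⟩) hc
  have e3 : k * c * k⁻¹ = (k * b * k⁻¹)⁻¹ * (a⁻¹ * (k * k)⁻¹) := by
    rw [← e2, hbc]; group
  have hkc' : k * c * k⁻¹ ∈ RGD.B cs h T X := by
    rw [e3]
    exact mul_mem (inv_mem (RGD.U_le_B hkb)) (mul_mem (inv_mem (RGD.U_le_B haU)) (RGD.T_le_B (inv_mem hkT)))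
  have e4 := eq_one_of_mem_UN_of_mem_B R hkc hkc'
  have hc1 : c = 1 := by
    have : c = k⁻¹ * (k * c * k⁻¹) * k := by group
    rw [this, e4]; group
  rw [hc1, mul_one] at hbc
  subst hbc
  have h5 : (k * k)⁻¹ ∈ RGD.Sup X (RGD.Pos cs h) ⊓ T := by
    refine Subgroup.mem_inf.2 ⟨?_, inv_mem hkT⟩
    have : (k * k)⁻¹ = a * (k * a * k⁻¹) := by rw [e2]; group
    rw [this]
    exact mul_mem haU hkb
  rw [U_inf_T R, Subgroup.mem_bot] at h5
  have hkk : k * k = 1 := by rwa [inv_eq_one] at h5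
  rw [h5, mul_one] at e2
  -- the square root
  have hodd : Odd (orderOf a) := by
    obtain ⟨m, hm⟩ := R.isPGroup_Upos ⟨a, haU⟩
    have h6 : a ^ p ^ m = 1 := congrArg Subtype.val hm
    exact Odd.of_dvd_nat (hp2.pow) (orderOf_dvd_of_pow_eq_one h6)
  obtain ⟨m, hm⟩ := exists_sqrt hodd
  refine ⟨(a ^ m)⁻¹ * v, k, hk, hkk, ?_⟩
  have e6 : k * a ^ m * k⁻¹ = (a ^ m)⁻¹ := by
    have h7 : k * a ^ m * k⁻¹ = (k * a * k⁻¹) ^ m := conj_pow.symm
    rw [h7, e2, inv_pow]
  have e7 : (a ^ m)⁻¹ * v * (u * k * v) * ((a ^ m)⁻¹ * v)⁻¹ = (a ^ m)⁻¹ * (v * u) * (k * a ^ m * k⁻¹) * k := by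
    group
  rw [e7, e6, ← ha]
  nth_rewrite 2 [← hm]
  group

/-- no root has both coefficients nonzero on a pair of orthogonal simple roots -/
theorem not_root_orth {i j : I} (hij : i ≠ j) (hA : A i j = 0) {z : I → ℤ} (hz : IsRoot cs h z)
    {α β : ℤ} (hα : α ≠ 0) (hβ : β ≠ 0) (he : z = α • sr i + β • sr j) : False := by
  have hi : z i = α := by
    rw [he, Pi.add_apply, Pi.smul_apply, Pi.smul_apply, sr_self, sr_ne hij]; simp
  have hj : z j = β := by
    rw [he, Pi.add_apply, Pi.smul_apply, Pi.smul_apply, sr_self, sr_ne hij.symm]; simp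
  have hz' := hz.act (cs.simple i)
  have e1 : rep cs h (cs.simple i) z = (-α) • sr i + β • sr j := by
    have e2 : rep cs h (cs.simple i) (sr j) = sr j := by
      rw [rep_simple_eq]
      have : pairing A i (sr j) = A i j := by
        unfold pairing
        rw [Finset.sum_eq_single j]
        · rw [sr_self, mul_one]
        · intro k _ hk
          rw [sr_ne hk, mul_zero]
        · intro hk; exact absurd (Finset.mem_univ j) hk
      rw [this, hA, zero_smul, sub_zero]
    rw [he, map_add, map_smul, map_smul, rep_simple_sr, e2, smul_neg, neg_smul]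
  have hi' : rep cs h (cs.simple i) z i = -α := by
    rw [e1, Pi.add_apply, Pi.smul_apply, Pi.smul_apply, sr_self, sr_ne hij]; simp
  have hj' : rep cs h (cs.simple i) z j = β := by
    rw [e1, Pi.add_apply, Pi.smul_apply, Pi.smul_apply, sr_self, sr_ne hij.symm]; simp
  rcases hz.pos_or_neg with h0 | h0 <;> rcases hz'.pos_or_neg with h1 | h1
  · have h2 : (0 : ℤ) ≤ z i := h0 i
    have h3 : (0 : ℤ) ≤ rep cs h (cs.simple i) z i := h1 i
    omega
  · have h2 : (0 : ℤ) ≤ z j := h0 j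
    have h3 : rep cs h (cs.simple i) z j ≤ (0 : ℤ) := h1 j
    omega
  · have h2 : z j ≤ (0 : ℤ) := h0 j
    have h3 : (0 : ℤ) ≤ rep cs h (cs.simple i) z j := h1 j
    omega
  · have h2 : z i ≤ (0 : ℤ) := h0 i
    have h3 : rep cs h (cs.simple i) z i ≤ (0 : ℤ) := h1 i
    omega

/-- **the root groups of two orthogonal nodes commute** -/
theorem root_comm {i j : I} (hij : i ≠ j) (hA : A i j = 0) {a b : Y} {x y : I → ℤ} (hx : x = sr i ∨ x = -sr i)
    (hy : y = sr j ∨ y = -sr j) (ha : a ∈ X x) (hb : b ∈ X y) : a * b = b * a := by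
  have hxr : IsRoot cs h x := by
    rcases hx with rfl | rfl
    · exact isRoot_sr cs h i
    · exact (isRoot_sr cs h i).neg
  have hyr : IsRoot cs h y := by
    rcases hy with rfl | rfl
    · exact isRoot_sr cs h j
    · exact (isRoot_sr cs h j).neg
  obtain ⟨ε, hε, hxe⟩ : ∃ ε : ℤ, ε ≠ 0 ∧ x = ε • sr i := by
    rcases hx with rfl | rfl
    · exact ⟨1, one_ne_zero, (one_smul _ _).symm⟩
    · exact ⟨-1, by norm_num, by rw [neg_smul, one_smul]⟩
  obtain ⟨δ, hδ, hye⟩ : ∃ δ : ℤ, δ ≠ 0 ∧ y = δ • sr j := by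
    rcases hy with rfl | rfl
    · exact ⟨1, one_ne_zero, (one_smul _ _).symm⟩
    · exact ⟨-1, by norm_num, by rw [neg_smul, one_smul]⟩
  have hxi : x i = ε := by rw [hxe, Pi.smul_apply, sr_self]; simp
  have hyi : y i = 0 := by rw [hye, Pi.smul_apply, sr_ne hij]; simp
  have hxy : x ≠ y := by
    intro h1
    rw [h1, hyi] at hxi
    exact hε hxi.symm
  have hxy' : x ≠ -y := by
    intro h1
    rw [h1, Pi.neg_apply, hyi, neg_zero] at hxi
    exact hε hxi.symm
  have h1 := R.comm x y hxr hyr hxy hxy' a ha b hb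
  have h2 : btw cs h X x y = ⊥ := by
    unfold Cfsg.Agent.Nodes.Reps.btw
    rw [eq_bot_iff]
    refine iSup_le ?_
    rintro ⟨z, hz⟩
    exfalso
    obtain ⟨hzr, m, α, β, hm, hα, hβ, he⟩ := hz
    -- `z = (α ε / m) sr i + (β δ / m) sr j`
    have hzi : m * z i = α * ε := by
      have := congrFun he i
      rw [Pi.smul_apply, Pi.add_apply, Pi.smul_apply, Pi.smul_apply, hxi, hyi] at this
      simpa using this
    have hzj : m * z j = β * δ := by
      have := congrFun he j
      rw [Pi.smul_apply, Pi.add_apply, Pi.smul_apply, Pi.smul_apply, hxe, hye, Pi.smul_apply, Pi.smul_apply,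
        sr_self, sr_ne hij.symm] at this
      simpa using this
    have hzk : ∀ k, k ≠ i → k ≠ j → z k = 0 := by
      intro k hk hk'
      have := congrFun he k
      rw [Pi.smul_apply, Pi.add_apply, Pi.smul_apply, Pi.smul_apply, hxe, hye, Pi.smul_apply, Pi.smul_apply,
        sr_ne hk, sr_ne hk'] at this
      simp only [smul_eq_mul, mul_zero, add_zero, mul_eq_zero] at this
      exact this.resolve_left hm.ne'
    refine not_root_orth R hij hA hzr (α := z i) (β := z j) ?_ ?_ ?_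
    · intro h3
      rw [h3, mul_zero] at hzi
      exact (mul_ne_zero hα.ne' hε) hzi.symm
    · intro h3
      rw [h3, mul_zero] at hzj
      exact (mul_ne_zero hβ.ne' hδ) hzj.symm
    · funext k
      rw [Pi.add_apply, Pi.smul_apply, Pi.smul_apply]
      by_cases hk : k = i
      · subst hk
        rw [sr_self, sr_ne hij]; simp
      · by_cases hk' : k = j
        · subst hk'
          rw [sr_self, sr_ne hk]; simp
        · rw [hzk k hk hk', sr_ne hk, sr_ne hk']; simp
  rw [h2, Subgroup.mem_bot, commutatorElement_eq_one_iff_mul_comm] at h1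
  exact h1

end Cfsg.Agent.H557.InvForm
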