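import Cfsg.Agent.H557.SubLink
import Cfsg.Agent.H557.ToralTypes

/-!
helper557: the involutions of the torus `(Kˣ)^l` and the action of the Weyl group on them, by bit masks.

* `sg n` : the sign vector of `n < 2 ^ l`; `chi_sg`, `step` : the action of a simple reflection;
* `act_word` : the action of a word; `ch_sg` : the characters;
* `card_orbit` : the order of the fixer from an orbit table.
-/

set_option autoImplicit false
set_option linter.unusedSectionVars false

namespace Cfsg.Agent.H557.SignTorus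

open CoxeterSystem Cfsg.Agent.ChevalleyStructure.CoxeterGeom Cfsg.Agent.Tits.Roots Cfsg.Agent.Tits.Core
  Cfsg.Agent.Tits.RootComb Cfsg.Agent.Nodes.Comb Cfsg.Agent.Nodes.Reps Cfsg.Agent.Nodes.BNOf
  Cfsg.Agent.Nodes.BNOf.RGD Cfsg.Agent.Nodes.Unique Cfsg.Agent.Nodes.NormalForm
  Cfsg.Agent.Nodes.Bruhat Cfsg.Agent.H557.CardCent Cfsg.Agent.H557.WAct Cfsg.Agent.H557.CentChev
open Cfsg.Lie Cfsg.Agent.ChevalleyStructure Cfsg.Agent.ChevalleyStructure.RootVec
  Cfsg.Agent.ChevalleyStructure.CoxeterGeomTypes Cfsg.Agent.Nodes.RGDChev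
  Cfsg.Agent.KFacts.RgdChevCoord Cfsg.Agent.OddHalf.NI.ModelChev Cfsg.Agent.H557.Toral

universe u

/-! ### bits -/

/-- parity of the bits below `l` -/
def par : ℕ → ℕ → Bool
  | 0, _ => false
  | k + 1, n => xor (par k n) (n.testBit k)

/-- the action of a simple reflection on sign vectors -/
def step (l : ℕ) (cm : List ℕ) (j n : ℕ) : ℕ := if par l (n &&& cm.getD j 0) then n ^^^ 2 ^ j else n

theorem prod_par {R : Type*} [CommGroup R] [HasDistribNeg R] :
    ∀ l n : ℕ, ∏ k : Fin l, (if n.testBit k then (-1 : R) else 1) = if par l n then -1 else 1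
  | 0, n => by simp [par]
  | l + 1, n => by
    rw [Fin.prod_univ_castSucc]
    simp only [Fin.val_castSucc, Fin.val_last]
    rw [prod_par l n, par]
    by_cases h1 : par l n = true <;> by_cases h2 : n.testBit l = true <;> simp [h1, h2]

theorem prod_zpow_sum' {G ι : Type*} [CommGroup G] (a : G) (S : Finset ι) (f : ι → ℤ) :
    ∏ i ∈ S, a ^ f i = a ^ ∑ i ∈ S, f i := by
  classical
  induction S using Finset.induction_on with
  | empty => simp
  | insert i S hi ih => rw [Finset.prod_insert hi, Finset.sum_insert hi, ih, zpow_add]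

section

variable {K : Type u} [Field K] {l : ℕ}

/-- the sign vector -/
def sg (K : Type u) [Field K] (l n : ℕ) : Fin l → Kˣ := fun k => if n.testBit k then -1 else 1

theorem sg_mul_self (n : ℕ) : sg K l n * sg K l n = 1 := by
  funext k
  unfold sg
  rw [Pi.mul_apply, Pi.one_apply]
  split_ifs <;> simp

theorem sg_zero : sg K l 0 = 1 := by
  funext k
  simp [sg]

theorem neg_one_ne (h2 : (2 : K) ≠ 0) : (-1 : Kˣ) ≠ 1 := by
  intro h
  apply h2
  have h1 : ((-1 : Kˣ) : K) = ((1 : Kˣ) : K) := congrArg _ h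
  rw [Units.val_neg, Units.val_one] at h1
  have h3 : (2 : K) = 1 - (-1) := by ring
  rw [h3, h1, sub_self]

theorem sg_inj (h2 : (2 : K) ≠ 0) {n m : ℕ} (hn : n < 2 ^ l) (hm : m < 2 ^ l) (h : sg K l n = sg K l m) : n = m := by
  apply Nat.eq_of_testBit_eq
  intro i
  by_cases hi : i < l
  · have h1 := congrFun h ⟨i, hi⟩
    simp only [sg] at h1
    have h3 := neg_one_ne h2
    cases hb : n.testBit i <;> cases hc : m.testBit i <;> simp only [hb, hc] at h1 ⊢
    · simp only [Bool.false_eq_true, if_false, if_true] at h1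
      exact absurd h1.symm h3
    · simp only [Bool.false_eq_true, if_false, if_true] at h1
      exact absurd h1 h3
  · have hle : 2 ^ l ≤ 2 ^ i := Nat.pow_le_pow_right (by norm_num) (not_lt.1 hi)
    rw [Nat.testBit_lt_two_pow (hn.trans_le hle), Nat.testBit_lt_two_pow (hm.trans_le hle)]

theorem exists_sg {b : Fin l → Kˣ} (hb : b * b = 1) : ∃ n < 2 ^ l, sg K l n = b := by
  classical
  refine ⟨Nat.ofBits fun k : Fin l => decide (b k = -1), Nat.ofBits_lt_two_pow _, ?_⟩
  funext k
  unfold sg
  rw [Nat.testBit_ofBits_lt _ _ k.2]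
  have h1 := congrFun hb k
  rw [Pi.mul_apply, Pi.one_apply] at h1
  have h2 : (b k : K) * b k = 1 := by
    have := congrArg (Units.val) h1
    rwa [Units.val_mul, Units.val_one] at this
  rcases mul_self_eq_one_iff.1 h2 with h3 | h3
  · have h4 : b k = 1 := Units.ext h3
    by_cases h5 : b k = -1
    · simp [h5]
    · simp [h4] at h5 ⊢
      intro h6
      exact absurd h6 h5
  · have h4 : b k = -1 := Units.ext (by rw [h3, Units.val_neg, Units.val_one])
    simp [h4]

/-- the column masks describe the Cartan matrix modulo `2` -/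
def OkC (A : Fin l → Fin l → ℤ) (cm : List ℕ) : Prop :=
  ∀ j k : Fin l, (cm.getD j 0).testBit k = decide (A k j % 2 ≠ 0)

variable {A : Fin l → Fin l → ℤ} {cm : List ℕ} (hcm : OkC A cm)

include hcm in
theorem chi_sg (j : Fin l) (n : ℕ) :
    chi A j (sg K l n) = if par l (n &&& cm.getD j 0) then -1 else 1 := by
  rw [← prod_par]
  unfold chi
  refine Finset.prod_congr rfl fun k _ => ?_
  rw [Nat.testBit_and, hcm j k]
  unfold sg
  rcases Int.emod_two_eq_zero_or_one (A k j) with h1 | h1
  · have h3 : Even (A k j) := Int.even_iff.2 h1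
    simp only [h1, ne_eq, not_true_eq_false, decide_false, Bool.and_false, Bool.false_eq_true, if_false]
    split_ifs
    · rw [h3.neg_one_zpow]
    · rw [one_zpow]
  · have h3 : Odd (A k j) := Int.odd_iff.2 h1
    simp only [h1, ne_eq, one_ne_zero, not_false_eq_true, decide_true, Bool.and_true]
    split_ifs
    · rw [h3.neg_one_zpow]
    · rw [one_zpow]

include hcm in
theorem sg_step (j : Fin l) (n : ℕ) :
    sg K l n * Pi.mulSingle j (chi A j (sg K l n))⁻¹ = sg K l (step l cm j n) := by
  rw [chi_sg hcm]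
  unfold step
  split_ifs with h1
  · funext k
    rw [Pi.mul_apply]
    unfold sg
    rw [Nat.testBit_xor, Nat.testBit_two_pow]
    by_cases hk : k = j
    · subst hk
      rw [Pi.mulSingle_eq_same]
      cases n.testBit k <;> simp
    · rw [Pi.mulSingle_eq_of_ne hk]
      have h2 : ¬ (j : ℕ) = k := fun h => hk (Fin.ext h.symm)
      simp [h2]
  · rw [inv_one, Pi.mulSingle_one, mul_one]

end

/-! ### the torus of the group -/

section

variable {D : ChevalleyDatum} {l : ℕ} {M : CoxeterMatrix (Fin l)} (hp : IsType D l M) {K : Type u} [Field K]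
  {W : Type*} [Group W] (cs : CoxeterSystem M W)

/-- the characters of the torus -/
theorem ch_eq {x : Fin l → ℤ} (hx : IsRoot cs hp.isCartan x) (b : Fin l → Kˣ) :
    ch hp x (th hp b) = ((∏ j, chi (cartanOf D l) j b ^ x j : Kˣ) : K) := by
  obtain ⟨r, hr, rfl⟩ := (isRoot_iff hp cs x).1 hx
  have h1 := chH_thT hp hr b
  have h2 : chH hp hr (thT hp b) = ch hp (vec D l r) (th hp b) := rfl
  rw [h2] at h1
  rw [h1]
  have h3 : ∏ j, chi (cartanOf D l) j b ^ vec D l r j = ∏ i, b i ^ D.cartan i r := by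
    unfold chi
    simp_rw [← Finset.prod_zpow]
    rw [Finset.prod_comm]
    refine Finset.prod_congr rfl fun i _ => ?_
    rw [← pairing_vec hp i hr]
    unfold pairing
    rw [← prod_zpow_sum']
    exact Finset.prod_congr rfl fun j _ => (zpow_mul _ _ _).symm
  rw [h3, Units.coe_prod]
  exact Finset.prod_congr rfl fun i _ => (Units.val_zpow_eq_zpow_val _ _).symm

variable {cm : List ℕ} (hcm : OkC (cartanOf D l) cm)

include hcm in
theorem ch_sg {x : Fin l → ℤ} (hx : IsRoot cs hp.isCartan x) (h2 : (2 : K) ≠ 0) {n : ℕ} {i₀ : Fin l}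
    (hn : ∀ j : Fin l, par l (n &&& cm.getD j 0) = decide (j = i₀)) :
    ch hp x (th hp (sg K l n)) = 1 ↔ Even (x i₀) := by
  rw [ch_eq hp cs hx, Finset.prod_eq_single i₀]
  · rw [chi_sg hcm, hn, decide_eq_true rfl, if_pos rfl]
    constructor
    · intro h
      by_contra h3
      rw [Int.not_even_iff_odd] at h3
      rw [h3.neg_one_zpow] at h
      exact neg_one_ne h2 (Units.ext h)
    · intro h
      rw [h.neg_one_zpow, Units.val_one]
  · intro j _ hj
    rw [chi_sg hcm, hn, decide_eq_false hj, if_neg (by simp), one_zpow]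
  · intro h; exact absurd (Finset.mem_univ _) h

variable [Finite K] (p : ℕ) [Fact p.Prime] [CharP K p]

include hcm in
theorem act_simple' (j : Fin l) (n : ℕ) :
    actHom cs (rgd (K := K) hp cs p).nsys (comm_mem_TT hp) (cs.simple j) (thT hp (sg K l n)) =
      thT hp (sg K l (step l cm j n)) := by
  apply Subtype.ext
  rw [coe_actHom, act_simple cs (rgd (K := K) hp cs p).nsys (comm_mem_TT hp) j (thT hp (sg K l n)).2]
  have h1 := nc_th hp (K := K) j (sg K l n)
  rw [sg_step hcm] at h1
  exact h1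

include hcm in
theorem act_word (n : ℕ) (ω : List (Fin l)) :
    actHom cs (rgd (K := K) hp cs p).nsys (comm_mem_TT hp) (cs.wordProd ω) (thT hp (sg K l n)) =
      thT hp (sg K l (ω.foldr (fun j m => step l cm j m) n)) := by
  induction ω with
  | nil => rw [wordProd_nil, map_one]; rfl
  | cons j ω ih =>
    rw [wordProd_cons, map_mul, Equiv.Perm.mul_apply, ih, act_simple' hp cs hcm p]
    rfl

/-- check of an orbit list: each entry `(n, j)` is moved by the simple reflection `j` into the earlier part -/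
def okOrb (l : ℕ) (cm : List ℕ) (O : ℕ) : ℕ → List (ℕ × ℕ) → Bool
  | seen, [] => Nat.beq seen O
  | seen, (n, j) :: L => decide (j < l) && seen.testBit (step l cm j n) && okOrb l cm O (seen ||| 2 ^ n) L

include hcm in
theorem reach {O rep : ℕ} : ∀ {L : List (ℕ × ℕ)} {seen : ℕ}, okOrb l cm O seen L = true →
    (∀ n, seen.testBit n = true → ∃ w, actHom cs (rgd (K := K) hp cs p).nsys (comm_mem_TT hp) w
      (thT hp (sg K l n)) = thT hp (sg K l rep)) →
    ∀ n, O.testBit n = true → ∃ w, actHom cs (rgd (K := K) hp cs p).nsys (comm_mem_TT hp) w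
      (thT hp (sg K l n)) = thT hp (sg K l rep)
  | [], seen => by
    intro h hs
    rw [okOrb] at h
    have h1 : seen = O := Nat.eq_of_beq_eq_true h
    rw [← h1]
    exact hs
  | (n, j) :: L, seen => by
    intro h hs
    rw [okOrb, Bool.and_eq_true, Bool.and_eq_true, decide_eq_true_eq] at h
    refine reach h.2 fun m hm => ?_
    rw [Nat.testBit_or, Bool.or_eq_true] at hm
    rcases hm with hm | hm
    · exact hs m hm
    · rw [Nat.testBit_two_pow, decide_eq_true_eq] at hm
      subst hm
      obtain ⟨w, hw⟩ := hs _ h.1.2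
      refine ⟨w * cs.simple ⟨j, h.1.1⟩, ?_⟩
      rw [map_mul, Equiv.Perm.mul_apply]
      have h1 := act_simple' hp cs hcm p (K := K) ⟨j, h.1.1⟩ n
      rw [h1]
      exact hw

/-- the orbit is closed -/
def okCl (l : ℕ) (cm : List ℕ) (O : ℕ) : Bool :=
  (List.range (2 ^ l)).all fun n => !(O.testBit n) || ((List.range l).all fun j => O.testBit (step l cm j n) &&
    decide (step l cm j n < 2 ^ l))

include hcm in
/-- **the order of the fixer of an involution of the torus** -/
theorem card_orbit [Finite W] (h2 : (2 : K) ≠ 0) (hth : ∀ t : Fin l → Kˣ, th hp t = 1 → t = 1) {O rep c : ℕ}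
    {L : List (ℕ × ℕ)} (hrep : rep < 2 ^ l) (hO : O.testBit rep = true) (hL : okOrb l cm O (2 ^ rep) L = true)
    (hcl : okCl l cm O = true) (hc : ((List.range (2 ^ l)).filter fun n => O.testBit n).length = c) :
    Nat.card ↥(fixS cs (rgd (K := K) hp cs p).nsys (comm_mem_TT hp) (thT hp (sg K l rep))) * c = Nat.card W := by
  classical
  unfold okCl at hcl
  simp only [List.all_eq_true, List.mem_range, Bool.and_eq_true, Bool.or_eq_true, decide_eq_true_eq,
    Bool.not_eq_true'] at hcl
  have hinj : Function.Injective (thT hp (K := K)) := by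
    rw [injective_iff_map_eq_one]
    intro b hb
    apply hth
    show ((thT hp b : ↥(TT D K)) : ↥(D.group K)) = 1
    rw [hb]; rfl
  let S : Set ↥(TT D K) := (fun n => thT hp (sg K l n)) '' {n | n < 2 ^ l ∧ O.testBit n = true}
  have hS : S.ncard = c := by
    have h3 : S.ncard = {n | n < 2 ^ l ∧ O.testBit n = true}.ncard := by
      refine Set.InjOn.ncard_image ?_
      rintro a ⟨ha, -⟩ b ⟨hb, -⟩ hab
      exact sg_inj h2 ha hb (hinj hab)
    rw [h3, ← hc]
    have h4 : {n | n < 2 ^ l ∧ O.testBit n = true} =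
        ((((List.range (2 ^ l)).filter fun n => O.testBit n).toFinset : Finset ℕ) : Set ℕ) := by
      ext n
      simp
    rw [h4, Set.ncard_coe_finset, List.toFinset_card_of_nodup (List.nodup_range.filter _)]
  have h1 := card_fixS cs (rgd (K := K) hp cs p).nsys (comm_mem_TT hp) (thT hp (sg K l rep)) S
    ⟨rep, ⟨hrep, hO⟩, rfl⟩ ?_ ?_
  · rw [hS] at h1
    exact h1
  · rintro j _ ⟨n, ⟨hn, hn'⟩, rfl⟩
    rw [act_simple' hp cs hcm p]
    have h5 := (hcl n hn).resolve_left (by rw [hn']; simp) j j.2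
    exact ⟨step l cm j n, ⟨h5.2, h5.1⟩, rfl⟩
  · rintro _ ⟨n, ⟨hn, hn'⟩, rfl⟩
    refine reach hp cs hcm p hL (fun m hm => ?_) n hn'
    rw [Nat.testBit_two_pow, decide_eq_true_eq] at hm
    subst hm
    exact ⟨1, by rw [map_one]; rfl⟩

end

end Cfsg.Agent.H557.SignTorus
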