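import Cfsg.Agent.H557.SubTab
import Cfsg.Agent.H557.CentChev

/-!
helper557: the sum over the fixer of an involution of the torus, computed from the tables of a subsystem.

* `Lnk` : the facts linking a table with the datum `D` (`i₀` : the node with `x(t) = (-1)^(x i₀)`);
* `rho` : the action of the fixer of `t` on the subsystem; `sum_fix` : **the sum over the fixer**.
-/

set_option autoImplicit false
set_option linter.unusedSectionVars false

namespace Cfsg.Agent.H557.SubLink

open CoxeterSystem Cfsg.Agent.ChevalleyStructure.CoxeterGeom Cfsg.Agent.Tits.Roots Cfsg.Agent.Tits.Core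
  Cfsg.Agent.Tits.RootComb Cfsg.Agent.Nodes.Comb Cfsg.Agent.Nodes.Reps Cfsg.Agent.Nodes.BNOf
  Cfsg.Agent.Nodes.BNOf.RGD Cfsg.Agent.Nodes.Unique Cfsg.Agent.Nodes.NormalForm
  Cfsg.Agent.Nodes.Bruhat Cfsg.Agent.H557.CardCent Cfsg.Agent.H557.WAct Cfsg.Agent.H557.CentChev
open Cfsg.Lie Cfsg.Agent.ChevalleyStructure Cfsg.Agent.ChevalleyStructure.RootVec
  Cfsg.Agent.ChevalleyStructure.CoxeterGeomTypes Cfsg.Agent.Nodes.RGDChev
  Cfsg.Agent.KFacts.RgdChevCoord Cfsg.Agent.OddHalf.NI.ModelChev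
open Cfsg.Agent.ChevalleyStructure.WeylAbstract Cfsg.Agent.ChevalleyStructure.WeylStep
  Cfsg.Agent.ChevalleyStructure.CoxeterWordCheck Cfsg.Agent.H557.SubTab Cfsg.Agent.H557.SumHom

universe u

section Checks

variable {l : ℕ} (T : Tab l)

/-- the words act as the reflections -/
def okV (rows : List (List ℤ)) : Bool := (List.range l).all fun i => (List.range T.N).all fun r =>
  actList rows ((T.w i).map Fin.val) (T.v r) == T.v (T.f i r)

/-- the vectors are roots with even coordinate `i₀` -/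
def okE (D : ChevalleyDatum) (i₀ : ℕ) : Bool := (List.range T.N).all fun r =>
  decide (T.E.getD r 0 < D.nroots) && (T.v r == (List.range l).map fun j => rt D (T.E.getD r 0) j) &&
    decide ((T.v r).getD i₀ 0 % 2 = 0)

/-- all roots with even coordinate `i₀` occur -/
def okF (D : ChevalleyDatum) (i₀ : ℕ) : Bool := (List.range D.nroots).all fun r =>
  decide (rt D r i₀ % 2 ≠ 0) || T.E.contains r

/-- no repetitions -/
def okH : Bool := nodupNat T.E && Nat.beq T.E.length T.N

/-- signs -/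
def okQ : Bool := (List.range T.m).all fun r =>
  ((T.v r).all fun a => decide (0 ≤ a)) && (T.v (r + T.m)).all fun a => decide (a ≤ 0)

/-- the root with position `r` as a function -/
def vf (r : ℕ) : Fin l → ℤ := fun j => (T.v r).getD j 0

end Checks

section

variable {D : ChevalleyDatum} {l : ℕ} {M : CoxeterMatrix (Fin l)} (hp : IsType D l M)
  {W : Type*} [Group W] (cs : CoxeterSystem M W)

/-- The facts linking a table with the datum. -/
structure Lnk (T : Tab l) (i₀ : Fin l) : Prop where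
  root : ∀ r < T.N, IsRoot cs hp.isCartan (vf T r)
  even : ∀ r < T.N, Even (vf T r i₀)
  surj : ∀ x, IsRoot cs hp.isCartan x → Even (x i₀) → ∃ r < T.N, vf T r = x
  inj : ∀ r < T.N, ∀ r' < T.N, vf T r = vf T r' → r = r'
  pos : ∀ r < T.N, 0 ≤ vf T r ↔ r < T.m
  act : ∀ i : Fin l, ∀ r < T.N, rep cs hp.isCartan (cs.wordProd (T.w i)) (vf T r) = vf T (T.f i r)

theorem length_v {T : Tab l} (r : ℕ) : (T.v r).length = l := length_dec l _

theorem lnk_of {T : Tab l} {i₀ : Fin l} {rw : List (List ℤ)} (hrw : rows (cartanOf D l) = rw) (hV : okV T rw = true)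
    (hE : okE T D i₀ = true) (hF : okF T D i₀ = true) (hH : okH T = true) (hQ : okQ T = true) : Lnk hp cs T i₀ := by
  unfold okV at hV
  unfold okE at hE
  unfold okF at hF
  unfold okH at hH
  unfold okQ at hQ
  simp only [List.all_eq_true, List.mem_range, Bool.and_eq_true, Bool.or_eq_true, decide_eq_true_eq,
    beq_iff_eq, List.contains_iff_mem] at hV hE hF hH hQ
  have hvec : ∀ r < T.N, vf T r = vec D l (T.E.getD r 0) := by
    intro r hr
    funext j
    show (T.v r).getD j 0 = rt D (T.E.getD r 0) j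
    rw [(hE r hr).1.2]
    simp [List.getD_eq_getElem?_getD, List.getElem?_map, List.getElem?_range j.2]
  have hEl : T.E.length = T.N := Nat.eq_of_beq_eq_true hH.2
  have hroot : ∀ r < T.N, IsRoot cs hp.isCartan (vf T r) := fun r hr => by
    rw [hvec r hr]
    exact isRoot_vec hp cs (hE r hr).1.1
  refine ⟨hroot, fun r hr => ?_, fun x hx hx0 => ?_, fun r hr r' hr' e => ?_, fun r hr => ?_, fun i r hr => ?_⟩
  · rw [Int.even_iff]
    exact (hE r hr).2
  · obtain ⟨k, hk, rfl⟩ := (isRoot_iff hp cs x).1 hx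
    rcases hF k hk with h1 | h1
    · exfalso
      rw [Int.even_iff] at hx0
      exact h1 hx0
    · obtain ⟨r, hr, e⟩ := List.getElem_of_mem h1
      refine ⟨r, hEl ▸ hr, ?_⟩
      rw [hvec r (hEl ▸ hr)]
      congr 1
      rw [List.getD_eq_getElem?_getD, List.getElem?_eq_getElem hr, Option.getD_some, e]
  · rw [hvec r hr, hvec r' hr'] at e
    have h1 := vec_inj hp (hE r hr).1.1 (hE r' hr').1.1 e
    have h2 := nodupNat_spec hH.1
    have hr2 : r < T.E.length := by rw [hEl]; exact hr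
    have hr2' : r' < T.E.length := by rw [hEl]; exact hr'
    rw [List.getD_eq_getElem?_getD, List.getD_eq_getElem?_getD, List.getElem?_eq_getElem hr2,
      List.getElem?_eq_getElem hr2', Option.getD_some, Option.getD_some] at h1
    exact (List.Nodup.getElem_inj_iff h2).1 h1
  · have hm : T.N = T.m + T.m := rfl
    constructor
    · intro h0
      by_contra h1
      have h2 := (hQ (r - T.m) (by omega)).2
      rw [show r - T.m + T.m = r by omega] at h2
      refine (hroot r hr).not_pos_neg h0 fun j => ?_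
      show (T.v r).getD j 0 ≤ 0
      have h3 : (j : ℕ) < (T.v r).length := by rw [length_v]; exact j.2
      rw [List.getD_eq_getElem?_getD, List.getElem?_eq_getElem h3, Option.getD_some]
      exact h2 _ (List.getElem_mem h3)
    · intro h1 j
      show 0 ≤ (T.v r).getD j 0
      have h3 : (j : ℕ) < (T.v r).length := by rw [length_v]; exact j.2
      rw [List.getD_eq_getElem?_getD, List.getElem?_eq_getElem h3, Option.getD_some]
      exact (hQ r h1).1 _ (List.getElem_mem h3)
  · have h1 := hV i i.2 r hr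
    rw [← hrw, eq_ofFn (length_v (T := T) r), actList_ofFn cs hp.isCartan] at h1
    have h2 : T.v (T.f i r) = List.ofFn (vf T (T.f i r)) := eq_ofFn (length_v _)
    rw [h2] at h1
    exact List.ofFn_injective h1

variable {cs hp} {T : Tab l} {i₀ : Fin l} (L : Lnk hp cs T i₀)

section Hom

variable (C : Subgroup W) (hC : ∀ w ∈ C, ∀ x, IsRoot cs hp.isCartan x → Even (x i₀) →
  Even (rep cs hp.isCartan w x i₀))

include L hC

theorem exists_act (w : C) (r : Fin T.N) : ∃ r' : Fin T.N, vf T r' = rep cs hp.isCartan (w : W) (vf T r) := by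
  obtain ⟨r', hr', e⟩ := L.surj _ ((L.root r r.2).act (w : W)) (hC w w.2 _ (L.root r r.2) (L.even r r.2))
  exact ⟨⟨r', hr'⟩, e⟩

theorem exists_rho : ∃ ρ : C →* Equiv.Perm (Fin T.N), ∀ w r, vf T (ρ w r : Fin T.N) = rep cs hp.isCartan (w : W) (vf T r) := by
  choose σ hσ using exists_act L C hC
  have hinj : ∀ r r' : Fin T.N, vf T r = vf T r' → r = r' := fun r r' e => Fin.ext (L.inj r r.2 r' r'.2 e)
  have h1 : ∀ r, σ 1 r = r := fun r => hinj _ _ (by
    rw [hσ, Subgroup.coe_one, map_one, Module.End.one_apply])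
  have h2 : ∀ w w' r, σ (w * w') r = σ w (σ w' r) := fun w w' r => hinj _ _ (by
    rw [hσ, hσ, hσ, Subgroup.coe_mul, rep_mul_apply])
  refine ⟨{ toFun := fun w => { toFun := σ w, invFun := σ w⁻¹, left_inv := fun r => ?_, right_inv := fun r => ?_ }
            map_one' := ?_
            map_mul' := ?_ }, fun w r => hσ w r⟩
  · rw [← h2, inv_mul_cancel, h1]
  · rw [← h2, mul_inv_cancel, h1]
  · ext r
    simp [h1]
  · intro w w'
    ext r
    simp [h2]

end Hom

include L in
/-- an element of `W` fixing the subsystem is trivial -/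
theorem eq_one_of_fix' (hβ : ∃ r < T.N, vf T r i₀ ≠ 0) {w : W}
    (hw : ∀ r < T.N, rep cs hp.isCartan w (vf T r) = vf T r) : w = 1 := by
  have hj : ∀ j, j ≠ i₀ → rep cs hp.isCartan w (sr j) = sr j := by
    intro j hj
    obtain ⟨r, hr, e⟩ := L.surj (sr j) (isRoot_sr cs hp.isCartan j) (by rw [sr_ne hj.symm]; exact Even.zero)
    rw [← e]
    exact hw r hr
  refine eq_one_of_fix cs hp.isCartan w fun j => ?_
  by_cases hj0 : j = i₀
  · subst hj0
    obtain ⟨r, hr, hne⟩ := hβ
    set x := vf T r with hx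
    have h5 : x = ∑ k, x k • sr k := by
      funext k
      rw [Finset.sum_apply, Finset.sum_eq_single k (fun b _ hb => by
        rw [Pi.smul_apply, sr_ne hb.symm, smul_zero]) (by simp), Pi.smul_apply, sr_self, smul_eq_mul,
        mul_one]
    have h6 := hw r hr
    rw [← hx] at h6
    have h7 : rep cs hp.isCartan w x - x = x j • (rep cs hp.isCartan w (sr j) - sr j) := by
      have h8 : rep cs hp.isCartan w x = ∑ k, x k • rep cs hp.isCartan w (sr k) := by
        have h9 := congrArg (rep cs hp.isCartan w) h5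
        rw [h9, map_sum]
        exact Finset.sum_congr rfl fun k _ => map_smul _ _ _
      have h9 : rep cs hp.isCartan w x - x =
          ∑ k, x k • rep cs hp.isCartan w (sr k) - ∑ k, x k • sr k := by
        rw [← h5, ← h8]
      rw [h9, ← Finset.sum_sub_distrib, Finset.sum_eq_single j]
      · rw [smul_sub]
      · intro k _ hk
        rw [hj k hk, sub_self]
      · intro hk; exact absurd (Finset.mem_univ j) hk
    rw [h6, sub_self] at h7
    exact sub_eq_zero.1 ((smul_eq_zero.1 h7.symm).resolve_left hne)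
  · exact hj j hj0

include L in
open Classical in
/-- **the sum over the fixer of an involution of the torus** -/
theorem sum_fix {K : Type u} [Field K] [Finite K] (p : ℕ) [Fact p.Prime] [CharP K p] [Fintype W] (hok : T.Ok)
    (hβ : ∃ r < T.N, vf T r i₀ ≠ 0) (t : TT D K)
    (hch : ∀ x, IsRoot cs hp.isCartan x → (ch hp x (t : ↥(D.group K)) = 1 ↔ Even (x i₀)))
    (hw : ∀ i : Fin l, cs.wordProd (T.w i) ∈ fixS cs (rgd (K := K) hp cs p).nsys (comm_mem_TT hp) t)
    (Ls : List (List Node)) (hLs : chainOK l [] T.A l Ls = true)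
    (hcard : Nat.card ↥(fixS cs (rgd (K := K) hp cs p).nsys (comm_mem_TT hp) t) = pe 1 (poly Ls)) (q : ℕ) :
    ∑ w : W with w ∈ fixS cs (rgd (K := K) hp cs p).nsys (comm_mem_TT hp) t,
          q ^ {x | x ∈ NW cs hp.isCartan w ∧ ch hp x (t : ↥(D.group K)) = 1}.ncard = pe q (poly Ls) := by
  set C := fixS cs (rgd (K := K) hp cs p).nsys (comm_mem_TT hp) t with hCdef
  have hC : ∀ w ∈ C, ∀ x, IsRoot cs hp.isCartan x → Even (x i₀) → Even (rep cs hp.isCartan w x i₀) := by
    intro w hw x hx h0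
    rw [← hch _ (hx.act w), ch_fix hp p cs hw hx, hch x hx]
    exact h0
  obtain ⟨ρ, hρ⟩ := exists_rho L C hC
  set R := Tab.rdata hok with hR
  have hinj' : ∀ r r' : Fin T.N, vf T r = vf T r' → r = r' := fun r r' e => Fin.ext (L.inj r r.2 r' r'.2 e)
  have hinj : Function.Injective ρ := by
    rw [injective_iff_map_eq_one]
    intro w hw1
    apply Subtype.ext
    refine eq_one_of_fix' L hβ fun r hr => ?_
    have h1 := hρ w ⟨r, hr⟩
    rw [hw1, Equiv.Perm.one_apply] at h1
    exact h1.symm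
  have hgen : ∀ i, R.refl i ∈ ρ.range := by
    intro i
    refine ⟨⟨cs.wordProd (T.w i), hw i⟩, ?_⟩
    ext r
    have h1 := hρ ⟨cs.wordProd (T.w i), hw i⟩ r
    rw [L.act i r r.2] at h1
    exact L.inj _ (Fin.is_lt _) _ (hok.fl i i.2 r r.2) h1
  have key := sum_hom R ρ hinj hgen T.A (fun _ _ => rfl) (fun i => hok.al i i.2) Ls hLs hcard q
  rw [← key, ← Finset.sum_subtype_eq_sum_filter]
  refine Finset.sum_bij (fun w _ => (⟨w.1, w.2⟩ : C)) (fun _ _ => Finset.mem_univ _) ?_ ?_ ?_
  · rintro ⟨a, ha⟩ _ ⟨b, hb⟩ _ e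
    exact Subtype.ext (congrArg Subtype.val e)
  · rintro ⟨a, ha⟩ _
    exact ⟨⟨a, ha⟩, Finset.mem_subtype.2 (Finset.mem_univ _), rfl⟩
  · rintro ⟨w, hwC⟩ _
    congr 1
    unfold RData.inv
    rw [← Nat.card_coe_set_eq]
    symm
    refine Nat.card_congr (Equiv.ofBijective
      (fun r : {r : Fin T.N // R.pos r ∧ ¬ R.pos (ρ ⟨w, hwC⟩ r)} => (⟨vf T r.1, ?_⟩ :
        {x | x ∈ NW cs hp.isCartan w ∧ ch hp x (t : ↥(D.group K)) = 1})) ⟨?_, ?_⟩)
    · obtain ⟨r, h1, h2⟩ := r
      refine ⟨⟨L.root r r.2, (L.pos r r.2).2 h1, ?_⟩, (hch _ (L.root r r.2)).2 (L.even r r.2)⟩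
      have h3 := hρ ⟨w, hwC⟩ r
      have h4 : rep cs hp.isCartan w (vf T r) = vf T (ρ ⟨w, hwC⟩ r : Fin T.N) := h3.symm
      rw [h4]
      refine ((L.root _ (Fin.is_lt _)).not_nonneg_iff).1 fun h5 => h2 ?_
      exact (L.pos _ (Fin.is_lt _)).1 h5
    · rintro ⟨r, hr⟩ ⟨r', hr'⟩ e
      exact Subtype.ext (hinj' _ _ (congrArg Subtype.val e))
    · rintro ⟨x, ⟨hx, hx0, hx1⟩, hx2⟩
      obtain ⟨r, hr, rfl⟩ := L.surj x hx ((hch x hx).1 hx2)
      refine ⟨⟨⟨r, hr⟩, (L.pos r hr).1 hx0, fun h5 => ?_⟩, rfl⟩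
      have h3 := hρ ⟨w, hwC⟩ ⟨r, hr⟩
      have h4 : rep cs hp.isCartan w (vf T r) = vf T (ρ ⟨w, hwC⟩ ⟨r, hr⟩ : Fin T.N) := h3.symm
      rw [h4] at hx1
      exact (L.root _ (Fin.is_lt _)).not_pos_neg ((L.pos _ (Fin.is_lt _)).2 h5) hx1

include L in
/-- the number of positive roots with value `1` -/
theorem card_pos {K : Type u} [Field K] (t : ↥(D.group K))
    (hch : ∀ x, IsRoot cs hp.isCartan x → (ch hp x t = 1 ↔ Even (x i₀))) :
    {x | x ∈ Pos cs hp.isCartan ∧ ch hp x t = 1}.ncard = T.m := by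
  have h1 : {x | x ∈ Pos cs hp.isCartan ∧ ch hp x t = 1} = (fun r => vf T r) '' (Set.Iio T.m) := by
    ext x
    constructor
    · rintro ⟨⟨hx, hx0⟩, hx1⟩
      obtain ⟨r, hr, rfl⟩ := L.surj x hx ((hch x hx).1 hx1)
      exact ⟨r, (L.pos r hr).1 hx0, rfl⟩
    · rintro ⟨r, hr, rfl⟩
      have hrN : r < T.N := by
        have : r < T.m := hr
        have h2 : T.N = T.m + T.m := rfl
        omega
      exact ⟨⟨L.root r hrN, (L.pos r hrN).2 hr⟩, (hch _ (L.root r hrN)).2 (L.even r hrN)⟩
  rw [h1, Set.InjOn.ncard_image]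
  · rw [← Finset.coe_Iio, Set.ncard_coe_finset, Nat.card_Iio]
  · intro r hr r' hr' e
    have h2 : T.N = T.m + T.m := rfl
    have h3 : r < T.m := hr
    have h4 : r' < T.m := hr'
    exact L.inj r (by omega) r' (by omega) e

include L in
open Classical in
/-- **the order of the centralizer of an involution of the torus** -/
theorem card_cent_eq {K : Type u} [Field K] [Finite K] (p : ℕ) [Fact p.Prime] [CharP K p] [Fintype W] (hok : T.Ok)
    (hβ : ∃ r < T.N, vf T r i₀ ≠ 0) (t : TT D K)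
    (hch : ∀ x, IsRoot cs hp.isCartan x → (ch hp x (t : ↥(D.group K)) = 1 ↔ Even (x i₀)))
    (hw : ∀ i : Fin l, cs.wordProd (T.w i) ∈ fixS cs (rgd (K := K) hp cs p).nsys (comm_mem_TT hp) t)
    (Ls : List (List Node)) (hLs : chainOK l [] T.A l Ls = true)
    (hcard : Nat.card ↥(fixS cs (rgd (K := K) hp cs p).nsys (comm_mem_TT hp) t) = pe 1 (poly Ls)) :
    Nat.card ↥(Subgroup.centralizer {(t : ↥(D.group K))}) =
      Nat.card K ^ T.m * Nat.card ↥(TT D K) * pe (Nat.card K) (poly Ls) := by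
  rw [card_cent hp p cs t, card_pos L (t : ↥(D.group K)) hch,
    sum_fix L p hok hβ t hch hw Ls hLs hcard (Nat.card K)]

end

end Cfsg.Agent.H557.SubLink
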