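import Cfsg.Agent.H557.SumHom
import Cfsg.Agent.ChevalleyStructure.CoxeterWordCheck

/-!
helper557: tables describing a subsystem of a root system, and the combinatorial root datum `RData` of a checked table.

* `Tab l` : roots (as vectors `V`), simple roots `sm`, reflections `rf`, coroots `co` on the simple coroots, Cartan
  matrix `A`, words `wd` realising the simple reflections;
* `Tab.Ok` : the facts extracted from the checks; `rdata`.
-/

set_option autoImplicit false
set_option linter.unusedSectionVars false

namespace Cfsg.Agent.H557.SubTab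

open Cfsg.Agent.ChevalleyStructure.WeylAbstract Cfsg.Agent.ChevalleyStructure.WeylStep
  Cfsg.Agent.ChevalleyStructure.CoxeterWordCheck

/-! ### lists -/

theorem eq_ofFn {l : ℕ} {v : List ℤ} (h : v.length = l) : v = List.ofFn (fun k : Fin l => v.getD k 0) := by
  subst h
  apply List.ext_getElem
  · simp
  · intro n h1 h2
    simp [List.getD_eq_getElem?_getD, List.getElem?_eq_getElem h1]

theorem getD_ofFn {l : ℕ} (g : Fin l → ℤ) (j : Fin l) : (List.ofFn g).getD j 0 = g j := by
  simp [List.getD_eq_getElem?_getD]

theorem reflList_getD {l : ℕ} {A : List (List ℤ)} {v : List ℤ} (i : Fin l) (hr : (A.getD i []).length = l)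
    (hv : v.length = l) (j : Fin l) :
    (reflList A i v).getD j 0 = v.getD j 0 -
      (if j = i then ∑ k : Fin l, v.getD k 0 * (A.getD i []).getD k 0 else 0) := by
  have h1 : reflList A i v = List.ofFn ((fun k : Fin l => v.getD k 0) -
      Pi.single i (∑ k : Fin l, (A.getD i []).getD k 0 * v.getD k 0)) := by
    unfold reflList
    conv_lhs => rw [eq_ofFn hv, eq_ofFn hr]
    rw [dot_ofFn, subAt_ofFn]
  rw [h1, getD_ofFn, Pi.sub_apply, Pi.single_apply]
  congr 1
  split_ifs
  · exact Finset.sum_congr rfl fun k _ => mul_comm _ _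
  · rfl

/-- pairwise distinct natural numbers -/
def nodupNat : List ℕ → Bool
  | [] => true
  | a :: l => (l.all fun b => !(Nat.beq a b)) && nodupNat l

theorem nodupNat_spec : ∀ {l : List ℕ}, nodupNat l = true → l.Nodup
  | [] => fun _ => List.nodup_nil
  | a :: l => by
    intro h
    simp only [nodupNat, Bool.and_eq_true, List.all_eq_true, Bool.not_eq_true'] at h
    rw [List.nodup_cons]
    refine ⟨fun ha => ?_, nodupNat_spec h.2⟩
    have := h.1 a ha
    rw [Nat.beq_refl] at this
    exact absurd this (by simp)

/-! ### tables -/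

/-- decode a vector -/
def dec : ℕ → ℕ → List ℤ
  | 0, _ => []
  | l + 1, c => Int.subNatNat (c % 16) 8 :: dec l (c / 16)

theorem length_dec : ∀ l c : ℕ, (dec l c).length = l
  | 0, _ => rfl
  | l + 1, c => by rw [dec, List.length_cons, length_dec]

/-- tables of a subsystem -/
structure Tab (l : ℕ) where
  /-- number of positive roots -/
  m : ℕ
  /-- indices of the roots in the datum; positive ones first, then their negatives -/
  E : List ℕ
  /-- codes of the root vectors -/
  V : List ℕ
  /-- positions of the simple roots -/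
  sm : List ℕ
  /-- the simple reflections -/
  rf : List (List ℕ)
  /-- codes of the coroots on the simple coroots -/
  cd : List ℕ
  /-- entry (i,k) is the value of the i-th simple root on the k-th simple coroot -/
  A : List (List ℤ)
  /-- words of the simple reflections -/
  wd : List (List (Fin l))

namespace Tab

variable {l : ℕ} (T : Tab l)

/-- number of roots -/
def N : ℕ := T.m + T.m

/-- position of the simple root -/
def s (i : ℕ) : ℕ := T.sm.getD i 0

/-- simple reflection -/
def f (i r : ℕ) : ℕ := (T.rf.getD i []).getD r 0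

/-- coroot -/
def c (r : ℕ) : List ℤ := dec l (T.cd.getD r 0)

/-- root vector -/
def v (r : ℕ) : List ℤ := dec l (T.V.getD r 0)

/-- word -/
def w (i : ℕ) : List (Fin l) := T.wd.getD i []

/-- negative -/
def ng (r : ℕ) : ℕ := if r < T.m then r + T.m else r - T.m

/-- check of the reflections -/
def okR : Bool := (List.range l).all fun i => (List.range T.N).all fun r =>
  decide (T.f i r < T.N) && (decide (T.f i (T.f i r) = r) && (T.c (T.f i r) == reflList T.A i (T.c r)))

/-- positive roots other than the simple one stay positive -/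
def okP : Bool := (List.range l).all fun i => (List.range T.m).all fun r =>
  decide (r = T.s i) || decide (T.f i r < T.m)

/-- simple roots -/
def okS : Bool := (List.range l).all fun i => decide (T.s i < T.N) && (T.c (T.s i) == unit l i)

/-- negatives -/
def okN : Bool := (List.range T.m).all fun r =>
  (T.c (r + T.m) == (T.c r).map fun a => -a) && (T.c r).all fun a => decide (0 ≤ a)

/-- Cartan matrix -/
def okA : Bool := (List.range l).all fun i => ((T.A.getD i []).length == l) && decide ((T.A.getD i []).getD i 0 = 2)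

/-- injectivity -/
def okI : Bool := (List.range T.N).map (fun r => code (T.c r)) == T.cd && nodupNat T.cd

/-- The facts extracted from the checks. -/
structure Ok : Prop where
  fl : ∀ i < l, ∀ r < T.N, T.f i r < T.N
  ff : ∀ i < l, ∀ r < T.N, T.f i (T.f i r) = r
  fc : ∀ i < l, ∀ r < T.N, T.c (T.f i r) = reflList T.A i (T.c r)
  fp : ∀ i < l, ∀ r < T.m, r = T.s i ∨ T.f i r < T.m
  sl : ∀ i < l, T.s i < T.N
  sc : ∀ i < l, T.c (T.s i) = unit l i
  cl : ∀ r < T.N, (T.c r).length = l
  cn : ∀ r < T.m, T.c (r + T.m) = (T.c r).map fun a => -a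
  cp : ∀ r < T.m, ∀ a ∈ T.c r, 0 ≤ a
  al : ∀ i < l, (T.A.getD i []).length = l
  ad : ∀ i < l, (T.A.getD i []).getD i 0 = 2
  ci : ∀ r < T.N, ∀ r' < T.N, T.c r = T.c r' → r = r'

theorem ok_of (hR : T.okR = true) (hP : T.okP = true) (hS : T.okS = true) (hN : T.okN = true)
    (hA : T.okA = true) (hI : T.okI = true) : T.Ok := by
  unfold okR at hR
  unfold okP at hP
  unfold okS at hS
  unfold okN at hN
  unfold okA at hA
  unfold okI at hI
  simp only [List.all_eq_true, List.mem_range, Bool.and_eq_true, Bool.or_eq_true, decide_eq_true_eq,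
    beq_iff_eq] at hR hP hS hN hA hI
  refine ⟨fun i hi r hr => (hR i hi r hr).1, fun i hi r hr => (hR i hi r hr).2.1, fun i hi r hr => (hR i hi r hr).2.2,
    hP, fun i hi => (hS i hi).1, fun i hi => (hS i hi).2, fun r _ => length_dec l _, fun r hr => (hN r hr).1, fun r hr => (hN r hr).2,
    fun i hi => (hA i hi).1, fun i hi => (hA i hi).2, ?_⟩
  intro r hr r' hr' e
  have h1 := nodupNat_spec hI.2
  rw [← hI.1, List.nodup_map_iff_inj_on List.nodup_range] at h1
  exact h1 r (List.mem_range.2 hr) r' (List.mem_range.2 hr') (by rw [e])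

variable {T}

/-- the reflections as permutations -/
def perm (h : T.Ok) (i : Fin l) : Equiv.Perm (Fin T.N) where
  toFun r := ⟨T.f i r, h.fl i i.2 r r.2⟩
  invFun r := ⟨T.f i r, h.fl i i.2 r r.2⟩
  left_inv r := Fin.ext (h.ff i i.2 r r.2)
  right_inv r := Fin.ext (h.ff i i.2 r r.2)

theorem ng_lt {r : ℕ} (hr : r < T.N) : T.ng r < T.N := by
  unfold N at hr ⊢
  unfold ng
  split_ifs <;> omega

theorem c_ng (h : T.Ok) {r : ℕ} (hr : r < T.N) : T.c (T.ng r) = (T.c r).map fun a => -a := by
  unfold N at hr
  unfold ng
  split_ifs with h1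
  · exact h.cn r h1
  · have h2 := h.cn (r - T.m) (by omega)
    rw [show r - T.m + T.m = r by omega] at h2
    rw [h2, List.map_map]
    symm
    convert List.map_id _ using 2
    funext a
    exact neg_neg a

/-- **The combinatorial root datum of a checked table.** -/
def rdata (h : T.Ok) : RData (Fin l) (Fin T.N) where
  pos r := (r : ℕ) < T.m
  neg r := ⟨T.ng r, ng_lt r.2⟩
  simple i := ⟨T.s i, h.sl i i.2⟩
  refl := perm h
  co r j := (T.c r).getD j 0
  A i k := (T.A.getD i []).getD k 0
  pos_neg r := by
    show T.ng r < T.m ↔ ¬ (r : ℕ) < T.m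
    have h1 : (r : ℕ) < T.m + T.m := r.2
    unfold ng
    split_ifs <;> omega
  co_neg r i := by
    show (T.c (T.ng r)).getD i 0 = -(T.c r).getD i 0
    rw [c_ng h r.2]
    have h1 : (i : ℕ) < (T.c r).length := by rw [h.cl r r.2]; exact i.2
    simp [List.getD_eq_getElem?_getD, List.getElem?_eq_getElem h1]
  co_inj r r' e := by
    apply Fin.ext
    refine h.ci r r.2 r' r'.2 ?_
    rw [eq_ofFn (h.cl r r.2), eq_ofFn (h.cl r' r'.2)]
    congr 1
    funext i
    exact e i
  co_nonneg r hr i := by
    have h1 : (i : ℕ) < (T.c r).length := by rw [h.cl r r.2]; exact i.2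
    show 0 ≤ (T.c r).getD i 0
    rw [List.getD_eq_getElem?_getD, List.getElem?_eq_getElem h1, Option.getD_some]
    exact h.cp r hr _ (List.getElem_mem h1)
  co_simple i j := by
    show (T.c (T.s i)).getD j 0 = _
    rw [h.sc i i.2, ← ofFn_single, getD_ofFn, Pi.single_apply]
  refl_pos i r hr hne := by
    rcases h.fp i i.2 r hr with h1 | h1
    · exact absurd (Fin.ext h1) hne
    · exact h1
  A_diag i := h.ad i i.2
  co_refl i r j := by
    show (T.c (T.f i r)).getD j 0 = _
    rw [h.fc i i.2 r r.2, reflList_getD i (h.al i i.2) (h.cl r r.2) j]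

end Tab

end Cfsg.Agent.H557.SubTab
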