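import Cfsg.Agent.ChevalleyStructure.WeylStep

/-!
helper557: the Poincare sum of a finite group acting faithfully on a root system through its Weyl group.

* `sum_hom` : if `C` acts faithfully on the roots of `R`, all simple reflections are in the image, and `|C|` is the
  order of the Weyl group then `∑_{c ∈ C} q ^ inv(c)` is the Poincare polynomial (computed from a checked chain).
-/

set_option autoImplicit false
set_option linter.unusedSectionVars false

namespace Cfsg.Agent.H557.SumHom

open Cfsg.Agent.ChevalleyStructure.WeylAbstract Cfsg.Agent.ChevalleyStructure.WeylStep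

/-- the polynomial computed from the tables -/
def poly (Ls : List (List Node)) : List ℕ :=
  pprod (Ls.map fun L => psum (L.map fun nd => pmon (1 * nd.a + 1 * nd.b)))

variable {rank : ℕ} {Φ : Type*} [Fintype Φ] (R : RData (Fin rank) Φ)

theorem sum_W (A : List (List ℤ)) (hA : ∀ i j : Fin rank, (A.getD i []).getD j 0 = R.A i j)
    (hAl : ∀ i : Fin rank, (A.getD i []).length = rank) (Ls : List (List Node))
    (hLs : chainOK rank [] A rank Ls = true) (q : ℕ) :
    ∑ᶠ w ∈ (R.W Set.univ : Set (Equiv.Perm Φ)), q ^ R.inv w = pe q (poly Ls) := by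
  classical
  have h1 := sum_of_chainOK R A hA hAl [] 1 1 q (fun _ => q) (fun _ _ => rfl) (fun _ => rfl)
    (fun i => by simp) rank Ls le_rfl hLs
  have h2 : {i : Fin rank | (i : ℕ) < rank} = Set.univ := by ext i; simp
  rw [h2] at h1
  unfold poly
  rw [← h1]
  refine finsum_congr fun w => finsum_congr fun _ => ?_
  unfold RData.Q
  rw [Finset.prod_const]
  congr 1
  unfold RData.inv
  rw [Nat.card_eq_fintype_card, Fintype.card_subtype]

/-- **the Poincare sum of a finite group acting faithfully through the Weyl group** -/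
theorem sum_hom {C : Type*} [Group C] [Fintype C] (ρ : C →* Equiv.Perm Φ) (hinj : Function.Injective ρ)
    (hgen : ∀ i, R.refl i ∈ ρ.range) (A : List (List ℤ))
    (hA : ∀ i j : Fin rank, (A.getD i []).getD j 0 = R.A i j)
    (hAl : ∀ i : Fin rank, (A.getD i []).length = rank) (Ls : List (List Node))
    (hLs : chainOK rank [] A rank Ls = true) (hcard : Nat.card C = pe 1 (poly Ls)) (q : ℕ) :
    ∑ c : C, q ^ R.inv (ρ c) = pe q (poly Ls) := by
  classical
  have hle : R.W Set.univ ≤ ρ.range := by
    unfold RData.W
    rw [Subgroup.closure_le]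
    rintro _ ⟨i, -, rfl⟩
    exact hgen i
  have hc1 : Nat.card ρ.range = Nat.card C :=
    (Nat.card_congr (MonoidHom.ofInjective hinj).toEquiv).symm
  have hc2 : Nat.card (R.W Set.univ) = Nat.card C := by
    rw [hcard, ← sum_W R A hA hAl Ls hLs 1]
    simp only [one_pow]
    have hfin : Finite (Equiv.Perm Φ) := inferInstance
    rw [finsum_mem_eq_finite_toFinset_sum _ (Set.toFinite _), Finset.sum_const, smul_eq_mul, mul_one,
      ← Set.ncard_eq_toFinset_card]
    exact Nat.card_coe_set_eq (R.W Set.univ : Set (Equiv.Perm Φ))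
  have hfin : Finite (Equiv.Perm Φ) := inferInstance
  have heq : R.W Set.univ = ρ.range := by
    refine Subgroup.eq_of_le_of_card_ge hle ?_
    rw [hc1, hc2]
  rw [← sum_W R A hA hAl Ls hLs q, heq]
  have h3 : ((ρ.range : Subgroup (Equiv.Perm Φ)) : Set (Equiv.Perm Φ)) = Set.range ρ := MonoidHom.coe_range ρ
  rw [h3, finsum_mem_range hinj, finsum_eq_sum_of_fintype]

end Cfsg.Agent.H557.SumHom
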