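import Cfsg.Agent.H557.CardCent

/-!
helper557: the action of the Weyl group on an abelian torus.

* `act` : `w t = n_w t n_w⁻¹`; `act_rp`, `act_mul`, `act_one`, `act_simple`;
* `actHom : W →* Equiv.Perm T`, `fixS` : the fixer of a torus element;
* `card_centralizer'` : the order of `C(t)` with the sum over `fixS`.
-/

set_option autoImplicit false
set_option linter.unusedSectionVars false

namespace Cfsg.Agent.H557.WAct

open CoxeterSystem Cfsg.Agent.ChevalleyStructure.CoxeterGeom Cfsg.Agent.Tits.Roots Cfsg.Agent.Tits.Core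
  Cfsg.Agent.Tits.RootComb Cfsg.Agent.Nodes.Comb Cfsg.Agent.Nodes.Reps Cfsg.Agent.Nodes.BNOf
  Cfsg.Agent.Nodes.BNOf.RGD Cfsg.Agent.Nodes.Unique Cfsg.Agent.Nodes.NormalForm
  Cfsg.Agent.Nodes.Bruhat Cfsg.Agent.Nodes.OppDec Cfsg.Agent.H557.CardCent

variable {I W Y : Type*} [Fintype I] [DecidableEq I] [Group W] [Group Y] {M : CoxeterMatrix I}
  {cs : CoxeterSystem M W} {A : I → I → ℤ} {h : IsCartan M A} {p : ℕ} {T : Subgroup Y} {n : I → Y}
  {X : (I → ℤ) → Subgroup Y}

section

variable (cs) (hN : NSys M T n)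

/-- a chosen representative -/
noncomputable def nr (w : W) : Y := (exists_rp cs hN w).choose

theorem rp_nr (w : W) : Rp cs hN w (nr cs hN w) := (exists_rp cs hN w).choose_spec

/-- the action of the Weyl group on the torus -/
noncomputable def act (w : W) (t : Y) : Y := nr cs hN w * t * (nr cs hN w)⁻¹

variable (hT : ∀ a ∈ T, ∀ b ∈ T, a * b = b * a)

include hT in
theorem act_rp {w : W} {g : Y} (hg : Rp cs hN w g) {t : Y} (ht : t ∈ T) : act cs hN w t = g * t * g⁻¹ := by
  have h1 := (rp_nr cs hN w).unique hg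
  have h2 : g * t * g⁻¹ = nr cs hN w * (((nr cs hN w)⁻¹ * g) * t * ((nr cs hN w)⁻¹ * g)⁻¹) * (nr cs hN w)⁻¹ := by
    group
  rw [h2, hT _ h1 t ht, mul_inv_cancel_right]
  rfl

theorem act_mem {w : W} {t : Y} (ht : t ∈ T) : act cs hN w t ∈ T :=
  (Subgroup.mem_normalizer_iff.1 (rp_nr cs hN w).mem_normalizer t).1 ht

include hT in
theorem act_mul (v w : W) {t : Y} (ht : t ∈ T) : act cs hN (v * w) t = act cs hN v (act cs hN w t) := by
  rw [act_rp cs hN hT ((rp_nr cs hN v).mul (rp_nr cs hN w)) ht]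
  unfold act
  group

include hT in
theorem act_one {t : Y} (ht : t ∈ T) : act cs hN 1 t = t := by
  rw [act_rp cs hN hT rp_one ht, one_mul, inv_one, mul_one]

include hT in
theorem act_simple (i : I) {t : Y} (ht : t ∈ T) : act cs hN (cs.simple i) t = n i * t * (n i)⁻¹ :=
  act_rp cs hN hT (rp_simple cs hN i) ht

/-- the action as permutations of the torus -/
noncomputable def actHom (hT : ∀ a ∈ T, ∀ b ∈ T, a * b = b * a) : W →* Equiv.Perm T where
  toFun w :=
    { toFun := fun t => ⟨act cs hN w t, act_mem cs hN t.2⟩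
      invFun := fun t => ⟨act cs hN w⁻¹ t, act_mem cs hN t.2⟩
      left_inv := fun t => Subtype.ext (by
        show act cs hN w⁻¹ (act cs hN w t) = t
        rw [← act_mul cs hN hT _ _ t.2, inv_mul_cancel, act_one cs hN hT t.2])
      right_inv := fun t => Subtype.ext (by
        show act cs hN w (act cs hN w⁻¹ t) = t
        rw [← act_mul cs hN hT _ _ t.2, mul_inv_cancel, act_one cs hN hT t.2]) }
  map_one' := Equiv.ext fun t => Subtype.ext (act_one cs hN hT t.2)
  map_mul' v w := Equiv.ext fun t => Subtype.ext (act_mul cs hN hT v w t.2)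

theorem coe_actHom (w : W) (t : T) : (actHom cs hN hT w t : Y) = act cs hN w t := rfl

/-- the fixer of an element of the torus -/
noncomputable def fixS (hT : ∀ a ∈ T, ∀ b ∈ T, a * b = b * a) (t : T) : Subgroup W where
  carrier := {w | actHom cs hN hT w t = t}
  one_mem' := by simp
  mul_mem' {v w} hv hw := by
    show actHom cs hN hT (v * w) t = t
    rw [map_mul, Equiv.Perm.mul_apply]
    rw [Set.mem_ofPred_eq] at hv hw
    rw [hw, hv]
  inv_mem' {w} hw := by
    rw [Set.mem_ofPred_eq] at hw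
    show actHom cs hN hT w⁻¹ t = t
    conv_lhs => rw [← hw]
    rw [← Equiv.Perm.mul_apply, ← map_mul, inv_mul_cancel, map_one, Equiv.Perm.one_apply]

theorem mem_fixS {t : T} {w : W} : w ∈ fixS cs hN hT t ↔ act cs hN w t = t := by
  show actHom cs hN hT w t = t ↔ _
  rw [Subtype.ext_iff, coe_actHom]

/-- orbit-stabilizer for a given orbit -/
theorem card_fixS [Finite W] (t : T) (S : Set T) (h0 : t ∈ S) (h1 : ∀ i, ∀ s ∈ S, actHom cs hN hT (cs.simple i) s ∈ S)
    (h2 : ∀ s ∈ S, ∃ w, actHom cs hN hT w s = t) : Nat.card ↥(fixS cs hN hT t) * S.ncard = Nat.card W := by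
  classical
  let _ : MulAction W T := MulAction.compHom T (actHom cs hN hT)
  have hsmul : ∀ (w : W) (s : T), w • s = actHom cs hN hT w s := fun w s => rfl
  have hst : MulAction.stabilizer W t = fixS cs hN hT t := by
    ext w
    rw [MulAction.mem_stabilizer_iff, hsmul]
    rfl
  have hS : ∀ w : W, ∀ s ∈ S, w • s ∈ S := by
    intro w
    obtain ⟨ω, rfl⟩ := cs.wordProd_surjective w
    induction ω with
    | nil => intro s hs; rw [wordProd_nil, one_smul]; exact hs
    | cons i ω ih =>
      intro s hs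
      rw [wordProd_cons, mul_smul]
      exact h1 i _ (ih s hs)
  have horb : MulAction.orbit W t = S := by
    ext s
    constructor
    · rintro ⟨w, rfl⟩
      exact hS w t h0
    · intro hs
      obtain ⟨w, hw⟩ := h2 s hs
      rw [← hsmul] at hw
      exact ⟨w⁻¹, by show w⁻¹ • t = s; rw [← hw, inv_smul_smul]⟩
  rw [← hst, ← horb, ← Nat.card_coe_set_eq, mul_comm]
  rw [← Nat.card_prod]
  exact Nat.card_congr (MulAction.orbitProdStabilizerEquivGroup W t)

end

variable (R : RGD cs h p T n X)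

/-- **the order of the centralizer of an element of the torus** -/
theorem card_centralizer' [Finite W] [Finite Y] (hG : GG cs h T X = ⊤) (hT : ∀ a ∈ T, ∀ b ∈ T, a * b = b * a)
    (t : T) [Fintype W] [DecidablePred (· ∈ fixS cs R.nsys hT t)] :
    Nat.card ↥(Subgroup.centralizer {(t : Y)}) =
      Nat.card ↥(Sup X (Pos cs h) ⊓ Subgroup.centralizer {(t : Y)}) * Nat.card T *
        ∑ w : W with w ∈ fixS cs R.nsys hT t, Nat.card ↥(Sup X (NW cs h w) ⊓ Subgroup.centralizer {(t : Y)}) := by
  classical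
  rw [card_centralizer R hG hT t.2 (nr cs R.nsys) (rp_nr cs R.nsys)]
  congr 1
  refine Finset.sum_congr ?_ fun _ _ => rfl
  ext w
  rw [Finset.mem_filter, Finset.mem_filter, mem_fixS]
  rfl

end Cfsg.Agent.H557.WAct
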